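import Cfsg.Agent.Lib.Chevalley.G2Orders.Torus
import Cfsg.Agent.Lib.Chevalley.G2InvClass
import Cfsg.Agent.Lib.Classical.SL2Tori

/-!
Elements of G₂ of order prime to the characteristic that centralise an involution lie in a split torus over
an extension; a lift of an element of order three of the Weyl group has order three.
-/

set_option autoImplicit false
set_option maxRecDepth 20000

namespace CfsgLib.Chevalley.G2OddOrders

open Tbl
open scoped MatrixGroups
open CfsgLib.Chevalley.CoxeterTorus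
open CfsgLib.KnownB.FieldAut (mapGL mapGL_inj map_group map_xU)

local notation "T2" => Data.G2.tbl
local notation "hT2" => Data.G2.valid

/-- The tower of extensions of degree 24 over 24 with the field map of the ground field. -/
theorem exists_tower {F : Type*} [Field F] [Fintype F] {q : ℕ} (hF : Fintype.card F = q) :
    ∃ (E : Type) (_ : Field E) (_ : Fintype E) (L : Type) (_ : Field L) (_ : Fintype L)
      (ι : F →+* E) (j : E →+* L) (σ : L →+* L),
      (∀ x, σ x = x ^ q) ∧ (∀ x, σ x = x ↔ x ∈ Set.range (j.comp ι)) ∧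
        Fintype.card E = q ^ 24 ∧ Fintype.card L = q ^ 576 := by
  classical
  obtain ⟨E, hE1, hE2, ι, -, -, -, hE⟩ := F4Graph.exists_ext hF
  obtain ⟨L, hL1, hL2, j, -, -, -, hL⟩ := F4Graph.exists_ext hE
  obtain ⟨p, hchar⟩ := CharP.exists F
  obtain ⟨d, hp, hd⟩ := FiniteField.card F p
  have : Fact p.Prime := ⟨hp⟩
  have : CharP L p := charP_of_injective_ringHom (j.comp ι).injective p
  have hq2 : 1 < q := hF ▸ Fintype.one_lt_card
  let σ : L →+* L := iterateFrobenius L p d
  have hσ : ∀ x : L, σ x = x ^ q := fun x => by rw [iterateFrobenius_def, ← hd, hF]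
  refine ⟨E, hE1, hE2, L, hL1, hL2, ι, j, σ, hσ, fun x => ?_, hE, by
    rw [hL, ← pow_mul]⟩
  rw [hσ]
  refine ⟨fun hx => ?_, ?_⟩
  · by_contra hxr
    let Q : Polynomial L := Polynomial.X ^ q - Polynomial.X
    have hQ : Q ≠ 0 := FiniteField.X_pow_card_sub_X_ne_zero L hq2
    have hsub : insert x (Finset.univ.image (j.comp ι)) ⊆ Q.roots.toFinset := by
      intro y hy
      rw [Multiset.mem_toFinset, Polynomial.mem_roots hQ]
      rw [Finset.mem_insert, Finset.mem_image] at hy
      simp only [Q, Polynomial.IsRoot, Polynomial.eval_sub, Polynomial.eval_pow, Polynomial.eval_X,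
        sub_eq_zero]
      rcases hy with rfl | ⟨z, -, rfl⟩
      · exact hx
      · rw [← map_pow, ← hF, FiniteField.pow_card]
    have h1 := (Finset.card_le_card hsub).trans (Multiset.toFinset_card_le _)
    have h2 := Polynomial.card_roots' Q
    rw [Finset.card_insert_of_notMem (by simpa using fun z => fun h => hxr ⟨z, h⟩),
      Finset.card_image_of_injective _ (j.comp ι).injective, Finset.card_univ, hF] at h1
    rw [show Q.natDegree = q from FiniteField.X_pow_card_sub_X_natDegree_eq L hq2] at h2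
    omega
  · rintro ⟨z, rfl⟩
    rw [← map_pow, ← hF, FiniteField.pow_card]

theorem nU_integral (R : Type*) [Field R] (i : Fin (T2).rank) :
    ((T2).nU R ((T2).simple i.val) 1 : Matrix (T2).I (T2).I R) =
      castM R (X (T := T2) ℤ ((T2).simple i.val) 1 * X ℤ ((T2).neg ((T2).simple i.val)) (-1) *
        X ℤ ((T2).simple i.val) 1) := by
  have hX : ∀ r t, castM R (X (T := T2) ℤ r t) = X R r ((t : ℤ) : R) := fun r t =>
    map_X (T := T2) ℤ (Int.castRingHom R) r t
  rw [map_mul, map_mul, hX, hX, nU, Units.val_mul, Units.val_mul, xU_val hT2 (simple_lt hT2 i.2),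
    xU_val hT2 (neg_lt' (simple_lt hT2 i.2))]
  simp

theorem nw_triple (R : Type*) [Field R] :
    (T2).nw R (G2Orders.l3 ++ (G2Orders.l3 ++ G2Orders.l3)) =
      (T2).nw R G2Orders.l3 * ((T2).nw R G2Orders.l3 * (T2).nw R G2Orders.l3) := by
  simp only [nw, List.map_append, List.prod_append]

/-- Two fields see the same integral matrix behind a word. -/
theorem nw_integral (K L : Type*) [Field K] [Field L] (l : List (Fin (T2).rank)) :
    ∃ M : Matrix (T2).I (T2).I ℤ, ((T2).nw K l : Matrix (T2).I (T2).I K) = castM K M ∧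
      ((T2).nw L l : Matrix (T2).I (T2).I L) = castM L M := by
  induction l with
  | nil => exact ⟨1, by simp [nw], by simp [nw]⟩
  | cons i l ih =>
    obtain ⟨M, h1, h2⟩ := ih
    refine ⟨X (T := T2) ℤ ((T2).simple i.val) 1 * X ℤ ((T2).neg ((T2).simple i.val)) (-1) *
      X ℤ ((T2).simple i.val) 1 * M, ?_, ?_⟩
    · rw [show (T2).nw K (i :: l) = (T2).nU K ((T2).simple i.val) 1 * (T2).nw K l from rfl, Units.val_mul,
        nU_integral, h1]
      simp only [map_mul]
    · rw [show (T2).nw L (i :: l) = (T2).nU L ((T2).simple i.val) 1 * (T2).nw L l from rfl, Units.val_mul,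
        nU_integral, h2]
      simp only [map_mul]

/-- The lift has order three. -/
theorem nw_cube {K : Type*} [Field K] :
    (T2).nw K G2Orders.l3 * ((T2).nw K G2Orders.l3 * (T2).nw K G2Orders.l3) = 1 := by
  set n := (T2).nw ℚ G2Orders.l3 with hn
  have h3 : n * (n * n) = 1 := by
    have h := nw_mem_diag (F := ℚ) hT2 _ (G2Orders.l3 ++ (G2Orders.l3 ++ G2Orders.l3)) rfl
      (Equiv.ext fun s => G2Orders.l3_cube s)
    rw [nw_triple, ← torusHom_range hT2] at h
    obtain ⟨f, hf⟩ := h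
    have hc : n * torusHom T2 ℚ f = torusHom T2 ℚ f * n := by rw [hf]; simp only [hn, mul_assoc]
    have hw := (mono_rel hT2 (nw_mem hT2 _) (mono_nw hT2 _) f f).1 hc
    rw [← hf, show (1 : GL (T2).I ℚ) = torusHom T2 ℚ 1 from (map_one _).symm]
    refine torus_congr hT2 fun s => ?_
    set w := (T2).pw hT2 G2Orders.l3
    have h1 := G2Orders.tCh_of_co (f := f) (u := w (w s)) (s := s) (r := w s) (x := -1) (y := -1)
      fun j => by have := G2Orders.l3_rel s j; linarith
    rw [hw, hw, zpow_neg_one, eq_comm, ← mul_inv_rev, inv_eq_iff_mul_eq_one] at h1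
    have h2 : ((tCh T2 f s.val : ℚˣ) : ℚ) ^ 3 = 1 := by
      rw [← Units.val_pow_eq_pow_val, pow_succ, pow_two, h1, Units.val_one]
    have h4 : ((tCh T2 f s.val : ℚˣ) : ℚ) = 1 := by
      have hodd : Odd 3 := by decide
      exact hodd.strictMono_pow.injective (by simpa using h2)
    rw [show tCh T2 (1 : Fin (T2).rank → ℚˣ) s.val = 1 by simp [tCh]]
    exact Units.ext h4
  obtain ⟨M, h1, h2⟩ := nw_integral K ℚ (G2Orders.l3 ++ (G2Orders.l3 ++ G2Orders.l3))
  rw [nw_triple, h3] at h2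
  have hM : M = 1 := by
    refine Matrix.map_injective (f := Int.castRingHom ℚ) Int.cast_injective ?_
    show castM ℚ M = castM ℚ 1
    rw [← h2, map_one, Units.val_one]
  rw [hM, map_one, nw_triple] at h1
  exact Units.ext h1

section SL2

variable {L : Type*} [Field L] [Fintype L]

open Matrix in
/-- An element of `SL₂` killed by `|L| - 1` is conjugate to a diagonal one. -/
theorem sl2_diag (h2 : (2 : L) ≠ 0) (a : SL(2, L)) (ha : a ^ (Fintype.card L - 1) = 1) :
    ∃ g : SL(2, L), ∃ c : Lˣ, g * a * g⁻¹ = SL2.dh c := by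
  classical
  set A : Matrix (Fin 2) (Fin 2) L := (a : Matrix (Fin 2) (Fin 2) L) with hA
  have hQ : 1 ≤ Fintype.card L := Fintype.card_pos
  have hAQ : A ^ Fintype.card L = A := by
    rw [show Fintype.card L = Fintype.card L - 1 + 1 by omega, pow_succ, hA,
      ← Matrix.SpecialLinearGroup.coe_pow, ha, Matrix.SpecialLinearGroup.coe_one, one_mul]
  obtain ⟨l, hl⟩ : ∃ l : L, (A - algebraMap L _ l).det = 0 := by
    have hP : (Finset.univ.prod fun x : L => Polynomial.X - Polynomial.C x) =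
        Polynomial.X ^ Fintype.card L - Polynomial.X := by
      have h := Polynomial.prod_multiset_X_sub_C_of_monic_of_roots_card_eq
        (p := (Polynomial.X ^ Fintype.card L - Polynomial.X : Polynomial L))
        (Polynomial.monic_X_pow_sub (by rw [Polynomial.degree_X]; exact_mod_cast Fintype.one_lt_card))
        (by rw [FiniteField.roots_X_pow_card_sub_X,
          FiniteField.X_pow_card_sub_X_natDegree_eq L Fintype.one_lt_card]; rfl)
      rw [FiniteField.roots_X_pow_card_sub_X] at h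
      exact h
    let φ : Polynomial L →* L := Matrix.detMonoidHom.comp (Polynomial.aeval A).toMonoidHom
    have h0 : φ (Finset.univ.prod fun x : L => Polynomial.X - Polynomial.C x) = 0 := by
      rw [hP]
      show Matrix.det (Polynomial.aeval A (Polynomial.X ^ Fintype.card L - Polynomial.X)) = 0
      rw [map_sub, map_pow, Polynomial.aeval_X, hAQ, sub_self, Matrix.det_zero]
    rw [map_prod, Finset.prod_eq_zero_iff] at h0
    obtain ⟨x, -, hx⟩ := h0
    refine ⟨x, ?_⟩
    have hx' : Matrix.det (Polynomial.aeval A (Polynomial.X - Polynomial.C x)) = 0 := hx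
    rwa [map_sub, Polynomial.aeval_X, Polynomial.aeval_C] at hx'
  have hdet := a.2
  rw [Matrix.det_fin_two, ← hA] at hdet
  have hl' : l * l - A.trace * l + 1 = 0 := by
    rw [Matrix.det_fin_two] at hl
    simp [Matrix.algebraMap_matrix_apply] at hl
    rw [Matrix.trace_fin_two]
    linear_combination hl - hdet
  have hl0 : l ≠ 0 := fun h => by rw [h] at hl'; simp at hl'
  by_cases hll : l = l⁻¹
  · refine ⟨1, ?_⟩
    obtain ⟨p, hp⟩ := CharP.exists L
    obtain ⟨d, hpp, hd⟩ := FiniteField.card L p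
    have : Fact p.Prime := ⟨hpp⟩
    have hl1 : l = 1 ∨ l = -1 := mul_self_eq_one_iff.1 (by rw [hll]; nth_rw 1 [hll]; rw [inv_inv, mul_inv_cancel₀ hl0])
    have hap : a ^ (2 * p) = 1 := by
      have key : ∀ b : SL(2, L), ((b : Matrix (Fin 2) (Fin 2) L) - 1).det = 0 → b ^ p = 1 := fun b hb =>
        Classical.sl2_pow_char p b hb
      rcases hl1 with rfl | rfl
      · rw [mul_comm, pow_mul, key a (by simpa using hl), one_pow]
      · have h3 := key (-a) (by
          have e : ((-a : SL(2, L)) : Matrix (Fin 2) (Fin 2) L) - 1 = -(A - algebraMap L _ (-1 : L)) := by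
            rw [Matrix.SpecialLinearGroup.coe_neg, map_neg, map_one, ← hA, sub_neg_eq_add, neg_add,
              sub_eq_add_neg]
          rw [e, Matrix.det_neg, hl, mul_zero])
        have h5 : (-a) ^ 2 = a ^ 2 := neg_sq a
        rw [pow_mul, ← h5, ← pow_mul, mul_comm, pow_mul, h3, one_pow]
    have h4 := pow_gcd_eq_one.2 ⟨hap, ha⟩
    have hg : Nat.gcd (2 * p) (Fintype.card L - 1) ∣ 2 := by
      refine Nat.Coprime.dvd_of_dvd_mul_right ?_ (Nat.gcd_dvd_left _ _)
      refine Nat.Coprime.coprime_dvd_left (Nat.gcd_dvd_right _ _)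
        (((Fact.out : p.Prime).coprime_iff_not_dvd.2 fun hpd => ?_).symm)
      have hpQ : p ∣ Fintype.card L := by rw [hd]; exact dvd_pow_self p d.2.ne'
      have := Nat.dvd_sub hpQ hpd
      rw [show Fintype.card L - (Fintype.card L - 1) = 1 by omega] at this
      exact hpp.ne_one (Nat.dvd_one.1 this)
    obtain ⟨k, hk⟩ := hg
    have h6 : a * a = 1 := by
      rw [← pow_two, show a ^ 2 = a ^ (Nat.gcd (2 * p) (Fintype.card L - 1) * k) from congrArg (a ^ ·) hk,
        pow_mul, h4, one_pow]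
    rcases G2Inv.sl2_sq_eq_one h2 h6 with rfl | rfl
    · exact ⟨1, by rw [one_mul, inv_one, mul_one, ← G2Inv.dhHom.map_one]; rfl⟩
    · exact ⟨-1, by rw [one_mul, inv_one, mul_one, G2Inv.dh_neg_one]⟩
  · have hli : l⁻¹ * l⁻¹ - A.trace * l⁻¹ + 1 = 0 := by
      field_simp
      linear_combination hl'
    have eig : ∀ x : L, x * x - A.trace * x + 1 = 0 → ∃ v : Fin 2 → L, v ≠ 0 ∧ A *ᵥ v = x • v := by
      intro x hx
      have h0 : (A - x • (1 : Matrix (Fin 2) (Fin 2) L)).det = 0 := by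
        rw [Matrix.det_fin_two]
        rw [Matrix.trace_fin_two] at hx
        simp
        linear_combination hx + hdet
      obtain ⟨v, hv, e⟩ := Matrix.exists_mulVec_eq_zero_iff.2 h0
      exact ⟨v, hv, by rwa [sub_mulVec, smul_mulVec, one_mulVec, sub_eq_zero] at e⟩
    obtain ⟨v, hv, hev⟩ := eig l hl'
    obtain ⟨w, hw, hew⟩ := eig l⁻¹ hli
    have ev0 := congrFun hev 0
    have ev1 := congrFun hev 1
    have ew0 := congrFun hew 0
    have ew1 := congrFun hew 1
    simp [Matrix.mulVec, dotProduct, Fin.sum_univ_two] at ev0 ev1 ew0 ew1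
    have hD : v 0 * w 1 - w 0 * v 1 ≠ 0 := by
      intro hD
      have hne : l - l⁻¹ ≠ 0 := sub_ne_zero.2 hll
      have e0 : (l - l⁻¹) * (v 0 * w 0) = 0 := by
        linear_combination -(w 0) * ev0 + v 0 * ew0 - A 0 1 * hD
      have e1 : (l - l⁻¹) * (v 1 * w 1) = 0 := by
        linear_combination -(w 1) * ev1 + v 1 * ew1 + A 1 0 * hD
      have f0 := (mul_eq_zero.1 e0).resolve_left hne
      have f1 := (mul_eq_zero.1 e1).resolve_left hne
      have nz : ∀ u : Fin 2 → L, u ≠ 0 → u 0 = 0 → u 1 ≠ 0 := fun u hu h h' =>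
        hu (funext fun i => by fin_cases i <;> assumption)
      rcases mul_eq_zero.1 f0 with h | h
      · have h1 := nz v hv h
        have hw1 := (mul_eq_zero.1 f1).resolve_left h1
        rw [h, hw1] at hD
        simp [h1] at hD
        exact hw (funext fun i => by fin_cases i <;> assumption)
      · have h1 := nz w hw h
        have hv1 := (mul_eq_zero.1 f1).resolve_right h1
        rw [h, hv1] at hD
        simp [h1] at hD
        exact hv (funext fun i => by fin_cases i <;> assumption)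
    set D := v 0 * w 1 - w 0 * v 1 with hDdef
    let P : SL(2, L) := ⟨!![v 0, D⁻¹ * w 0; v 1, D⁻¹ * w 1], by
      rw [Matrix.det_fin_two_of]; field_simp; rw [hDdef]⟩
    refine ⟨P⁻¹, Units.mk0 l hl0, ?_⟩
    rw [inv_inv, mul_assoc, inv_mul_eq_iff_eq_mul]
    apply Subtype.ext
    show A * !![v 0, D⁻¹ * w 0; v 1, D⁻¹ * w 1] =
      !![v 0, D⁻¹ * w 0; v 1, D⁻¹ * w 1] * !![(l : L), 0; 0, (l : L)⁻¹]
    ext i j
    fin_cases i <;> fin_cases j <;> simp [Matrix.mul_apply, Fin.sum_univ_two]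
    · linear_combination ev0
    · linear_combination D⁻¹ * ew0
    · linear_combination ev1
    · linear_combination D⁻¹ * ew1

end SL2

section Map

variable {K L : Type*} [Field K] [Field L] (ι : K →+* L)

theorem map_dh (c : Kˣ) :
    Matrix.SpecialLinearGroup.map ι (SL2.dh c) = SL2.dh (Units.map (ι : K →* L) c) := by
  apply Subtype.ext
  show (!![(c : K), 0; 0, (c : K)⁻¹]).map ι = _
  ext i j; fin_cases i <;> fin_cases j <;> simp [SL2.dh]

theorem map_phi {r : ℕ} (hr : r < (T2).n) (g : SL(2, K)) :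
    mapGL T2 ι ((G2Inv.phi hr g : G2Inv.GG K) : GL (T2).I K) =
      ((G2Inv.phi hr (Matrix.SpecialLinearGroup.map ι g) : G2Inv.GG L) : GL (T2).I L) := by
  refine DFunLike.congr_fun (G2Inv.hom_ext
    ((mapGL T2 ι).comp (((T2).datum.group K).subtype.comp (G2Inv.phi hr)))
    ((((T2).datum.group L).subtype.comp (G2Inv.phi hr)).comp (Matrix.SpecialLinearGroup.map ι))
    (fun t => ?_) (fun t => ?_)) g
  · show mapGL T2 ι ((G2Inv.phi hr (SL2.ux t) : G2Inv.GG K) : GL (T2).I K) = _
    rw [G2Inv.coe_phi_ux, map_xU ι hT2 hr, ← G2Inv.coe_phi_ux hr]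
    show ((G2Inv.phi hr _ : G2Inv.GG L) : GL (T2).I L) = ((G2Inv.phi hr _ : G2Inv.GG L) : GL (T2).I L)
    congr 2
    apply Subtype.ext
    show _ = (!![(1 : K), t; 0, 1]).map ι
    ext i j; fin_cases i <;> fin_cases j <;> simp [SL2.ux]
  · show mapGL T2 ι ((G2Inv.phi hr (G2Inv.lx t) : G2Inv.GG K) : GL (T2).I K) = _
    rw [G2Inv.coe_phi_lx, map_xU ι hT2 (neg_lt' hr), ← G2Inv.coe_phi_lx hr]
    show ((G2Inv.phi hr _ : G2Inv.GG L) : GL (T2).I L) = ((G2Inv.phi hr _ : G2Inv.GG L) : GL (T2).I L)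
    congr 2
    apply Subtype.ext
    show _ = (!![(1 : K), 0; t, 1]).map ι
    ext i j; fin_cases i <;> fin_cases j <;> simp [G2Inv.lx]

end Map

/-- An element of order prime to the characteristic commuting with an involution is conjugate over the
tower into the torus. -/
theorem even_conj {F E L : Type*} [Field F] [Fintype F] [Field E] [Fintype E] [Field L] [Fintype L]
    (p : ℕ) [Fact p.Prime] [CharP F p] (hp2 : p ≠ 2) (ι : F →+* E) (j : E →+* L)
    (hE : Fintype.card E = Fintype.card F ^ 24) (hL : Fintype.card L = Fintype.card F ^ 576)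
    {s : GL (T2).I F} (hs : s ∈ (T2).datum.group F) {m : ℕ} (hm : Even m) (hm0 : m ≠ 0)
    (hso : orderOf s = m) (hpm : p.Coprime m) :
    ∃ x ∈ (T2).datum.group L,
      x * mapGL T2 (j.comp ι) s * x⁻¹ ∈ (T2).datum.diagonalSubgroup L := by
  classical
  obtain ⟨d, hpp, hd⟩ := FiniteField.card F p
  have hFo : Odd (Fintype.card F) := by rw [hd]; exact (hpp.odd_of_ne_two hp2).pow
  have h2 : (2 : F) ≠ 0 := G2Inv.odd_char hFo
  have h2E : (2 : E) ≠ 0 := fun h => h2 (ι.injective (by rw [map_ofNat, h, map_zero]))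
  have h2L : (2 : L) ≠ 0 := fun h => h2E (j.injective (by rw [map_ofNat, h, map_zero]))
  have : CharP E p := charP_of_injective_ringHom ι.injective p
  set g : G2Inv.GG F := ⟨s, hs⟩ with hg
  obtain ⟨k, hk⟩ := hm
  have hgo : orderOf g = m := by rw [← Subgroup.orderOf_coe]; exact hso
  have hy1 : g ^ k * g ^ k = 1 := by rw [← pow_add, ← hk, ← hgo, pow_orderOf_eq_one]
  have hy2 : g ^ k ≠ 1 := fun h => by
    have := Nat.le_of_dvd (by omega) (orderOf_dvd_of_pow_eq_one h)
    omega
  obtain ⟨c, hc⟩ := isConj_iff.1 (G2Inv.isConj_z hFo hy1 hy2)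
  have hK : c⁻¹ * g * c ∈ Subgroup.centralizer ({G2Inv.z} : Set (G2Inv.GG F)) := by
    rw [Subgroup.mem_centralizer_singleton_iff]
    have : G2Inv.z = c⁻¹ * g ^ k * c := by rw [← hc]; group
    rw [this]
    group
  rw [G2Inv.centralizer_z h2] at hK
  obtain ⟨a, b, t, habt⟩ := G2Inv.mem_K.1 hK
  obtain ⟨r, hr⟩ : IsSquare ((Units.map (ι : F →* E) t : Eˣ) : E) := by
    have h2' : ringChar E ≠ 2 := by rw [ringChar.eq E p]; exact hp2
    rw [FiniteField.isSquare_iff h2' (Units.map (ι : F →* E) t).ne_zero]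
    have ht : t ^ (Fintype.card F - 1) = 1 := by
      rw [← Nat.card_eq_fintype_card, ← Nat.card_units]; exact pow_card_eq_one'
    obtain ⟨c', hc'⟩ : Fintype.card F - 1 ∣ Fintype.card E / 2 := by
      rw [hE]
      obtain ⟨i, hi⟩ := hFo
      have h3 : Fintype.card F ^ 2 - 1 ∣ Fintype.card F ^ 24 - 1 :=
        Nat.pow_sub_one_dvd_pow_sub_one _ (by norm_num)
      obtain ⟨e, he⟩ := h3
      rw [hi] at he ⊢
      have h4 : (2 * i + 1) ^ 2 - 1 = (2 * i) * (2 * (i + 1)) := by
        rw [Nat.sub_eq_iff_eq_add (Nat.one_le_pow _ _ (by omega))]; ring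
      have h5 : (2 * i + 1) ^ 24 = 2 * ((2 * i) * ((i + 1) * e)) + 1 := by
        rw [h4] at he
        have := Nat.one_le_pow 24 (2 * i + 1) (by omega)
        rw [show 2 * ((2 * i) * ((i + 1) * e)) = 2 * i * (2 * (i + 1)) * e by ring]
        omega
      refine ⟨(i + 1) * e, ?_⟩
      rw [h5, Nat.add_sub_cancel, Nat.add_comm, Nat.add_mul_div_left _ _ (by norm_num : 0 < 2)]
      simp
    rw [Units.coe_map, MonoidHom.coe_coe, ← map_pow, hc', pow_mul, ← Units.val_pow_eq_pow_val, ht,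
      Units.val_one, one_pow, map_one]
  have hr0 : r ≠ 0 := fun h => (Units.map (ι : F →* E) t).ne_zero (by rw [hr, h, mul_zero])
  set ru : Eˣ := Units.mk0 r hr0
  have htE : Units.map (ι : F →* E) t = ru ^ 2 := Units.ext (by rw [hr, pow_two]; rfl)
  -- the image over the first extension as a product of the two factors
  set ρ := Matrix.SpecialLinearGroup.map (n := Fin 2) ι
  set x0 : SL(2, E) := ρ a * SL2.dh ru⁻¹
  set y0 : SL(2, E) := ρ b * SL2.dh ru
  set ge : G2Inv.GG E := G2Inv.pr (x0, y0) with hge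
  have himg : mapGL T2 ι ((c⁻¹ * g * c : G2Inv.GG F) : GL (T2).I F) = (ge : GL (T2).I E) := by
    rw [habt, Subgroup.coe_mul, Subgroup.coe_mul, map_mul, map_mul, G2Inv.fa, G2Inv.fb, map_phi, map_phi]
    rw [show (G2Inv.tor t : G2Inv.GG F) = G2Inv.phi G2Inv.h6 (SL2.dh t) from rfl, map_phi, map_dh, htE,
      show G2Inv.phi G2Inv.h6 (SL2.dh (ru ^ 2)) = (G2Inv.tor (ru ^ 2) : G2Inv.GG E) from rfl,
      G2Inv.tor_sq, ← Subgroup.coe_mul, ← Subgroup.coe_mul]
    refine congrArg Subtype.val ?_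
    show G2Inv.fa (ρ a) * G2Inv.fb (ρ b) * (G2Inv.fa (SL2.dh ru⁻¹) * G2Inv.fb (SL2.dh ru)) = _
    rw [hge, G2Inv.pr_apply, map_mul, map_mul]
    have := (G2Inv.fa_fb_commute (SL2.dh ru⁻¹) (ρ b)).eq
    calc _ = G2Inv.fa (ρ a) * (G2Inv.fb (ρ b) * G2Inv.fa (SL2.dh ru⁻¹)) * G2Inv.fb (SL2.dh ru) := by group
      _ = _ := by rw [← this]; group
  have hgem : ge ^ m = 1 := by
    refine Subtype.ext ?_
    rw [Subgroup.coe_pow, Subgroup.coe_one, ← himg, ← map_pow, ← Subgroup.coe_pow]
    have : (c⁻¹ * g * c) ^ m = 1 := by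
      have h := _root_.conj_pow (i := m) (a := c⁻¹) (b := g)
      rw [inv_inv] at h
      rw [h, ← hgo, pow_orderOf_eq_one]; group
    rw [this, Subgroup.coe_one, map_one]
  have hxy : x0 ^ (2 * m) = 1 ∧ y0 ^ (2 * m) = 1 := by
    rw [hge, ← map_pow, Prod.pow_mk, G2Inv.pr_apply, mul_eq_one_iff_eq_inv, ← map_inv] at hgem
    have hy : (y0 ^ m)⁻¹ = 1 ∨ (y0 ^ m)⁻¹ = -1 := by
      rcases G2Inv.fa_central hgem with e | e
      · rw [e, map_one, eq_comm, map_eq_one_iff _ G2Inv.fb_injective] at hgem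
        exact Or.inl hgem
      · rw [e, ← G2Inv.fb_neg_one] at hgem
        exact Or.inr (G2Inv.fb_injective hgem).symm
    refine ⟨?_, ?_⟩
    · rw [mul_comm, pow_mul]
      rcases G2Inv.fa_central hgem with e | e <;> rw [e] <;> simp
    · rw [mul_comm, pow_mul, ← inv_inv (y0 ^ m)]
      rcases hy with e | e <;> rw [e] <;> simp
  have hQ : ∀ z : SL(2, E), z ^ (2 * m) = 1 →
      Matrix.SpecialLinearGroup.map j z ^ (Fintype.card L - 1) = 1 := by
    intro z hz
    rw [← map_pow]
    suffices h : orderOf z ∣ Fintype.card L - 1 by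
      rw [orderOf_dvd_iff_pow_eq_one.1 h, map_one]
    have hcop : (orderOf z).Coprime p :=
      Nat.Coprime.coprime_dvd_left (orderOf_dvd_of_pow_eq_one hz)
        (Nat.Coprime.symm (Nat.Coprime.mul_right ((Nat.coprime_primes hpp Nat.prime_two).2 hp2) hpm))
    have hEL : Fintype.card E ^ 2 - 1 ∣ Fintype.card L - 1 := by
      rw [hL, hE, ← pow_mul]
      exact Nat.pow_sub_one_dvd_pow_sub_one _ (by norm_num)
    refine dvd_trans ?_ hEL
    rw [show Fintype.card E ^ 2 - 1 = Fintype.card E ^ 2 - 1 ^ 2 by rw [one_pow], Nat.sq_sub_sq]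
    rcases Classical.sl2_order_dvd p z hcop with h | h
    · exact h.trans (dvd_mul_left _ _)
    · exact h.trans (dvd_mul_right _ _)
  obtain ⟨u, cu, hu⟩ := sl2_diag h2L _ (hQ x0 hxy.1)
  obtain ⟨v, cv, hv⟩ := sl2_diag h2L _ (hQ y0 hxy.2)
  set w : G2Inv.GG L := G2Inv.pr (u, v)
  set cc := mapGL T2 (j.comp ι) ((c⁻¹ : G2Inv.GG F) : GL (T2).I F)
  have hcc : cc ∈ (T2).datum.group L := map_group _ hT2 ⟨_, (c⁻¹).2, rfl⟩
  refine ⟨(w : GL (T2).I L) * cc, mul_mem w.2 hcc, ?_⟩
  have hmid : cc * mapGL T2 (j.comp ι) s * cc⁻¹ =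
      ((G2Inv.pr (Matrix.SpecialLinearGroup.map j x0, Matrix.SpecialLinearGroup.map j y0) : G2Inv.GG L) :
        GL (T2).I L) := by
    have h1 : cc * mapGL T2 (j.comp ι) s * cc⁻¹ =
        mapGL T2 (j.comp ι) ((c⁻¹ * g * c : G2Inv.GG F) : GL (T2).I F) := by
      simp only [cc, Subgroup.coe_mul, InvMemClass.coe_inv, map_mul, map_inv, inv_inv, hg]
    rw [h1, show mapGL T2 (j.comp ι) ((c⁻¹ * g * c : G2Inv.GG F) : GL (T2).I F) =
      mapGL T2 j (mapGL T2 ι ((c⁻¹ * g * c : G2Inv.GG F) : GL (T2).I F)) from Units.ext rfl, himg, hge,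
      G2Inv.pr_apply, G2Inv.pr_apply, Subgroup.coe_mul, Subgroup.coe_mul, map_mul, G2Inv.fa, G2Inv.fb,
      map_phi, map_phi]
    rfl
  rw [show (w : GL (T2).I L) * cc * mapGL T2 (j.comp ι) s * ((w : GL (T2).I L) * cc)⁻¹ =
    (w : GL (T2).I L) * (cc * mapGL T2 (j.comp ι) s * cc⁻¹) * (w : GL (T2).I L)⁻¹ by group, hmid,
    ← Subgroup.coe_inv, ← Subgroup.coe_mul, ← Subgroup.coe_mul, ← map_inv, ← map_mul, ← map_mul,
    Prod.inv_mk, Prod.mk_mul_mk, Prod.mk_mul_mk, hu, hv, G2Inv.pr_apply, Subgroup.coe_mul, G2Inv.fa,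
    G2Inv.fb, G2Inv.coe_phi_dh, G2Inv.coe_phi_dh]
  exact mul_mem (G2Inv.dU_hCh_mem_diag G2Inv.h7 _) (G2Inv.dU_hCh_mem_diag G2Inv.h11 _)

end CfsgLib.Chevalley.G2OddOrders
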