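import Cfsg.Agent.Lib.Chevalley.G2OddOrders.Unipotent

/-!
Regular unipotent elements of order `p ^ 2` for `p` three and five.
-/

set_option autoImplicit false
set_option maxRecDepth 20000
set_option maxHeartbeats 2000000

namespace CfsgLib.Chevalley.G2OddOrders

open Tbl Matrix
open CfsgLib.KnownB.FieldAut (mapGL mapGL_inj map_group)

local notation "T2" => Data.G2.tbl
local notation "hT2" => Data.G2.valid

/-- A vector from its list of entries. -/
def vec (p : ℕ) (L : List ℕ) : (T2).I → ZMod p :=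
  Sum.elim (fun i => (L.getD i.val 0 : ℕ)) fun s => (L.getD (2 + s.val) 0 : ℕ)

/-- Iterates of a vector in characteristic 3. -/
def iter3 : List (List ℕ) :=
  [[1, 0, 0, 0, 0, 0, 0, 0, 0, 0, 0, 0, 0, 0], [1, 0, 0, 0, 0, 0, 0, 0, 0, 1, 1, 0, 0, 0], [1, 0, 0, 0, 0, 0, 0, 0, 0, 2, 0, 1, 0, 0], [1, 0, 0, 0, 0, 0, 0, 0, 0, 0, 0, 1, 0, 0]]

theorem iter3_step : ∀ k : Fin 3, ∀ i : (T2).I,
    (X (T := T2) (ZMod 3) 6 1 *ᵥ (X (T := T2) (ZMod 3) 7 1 *ᵥ vec 3 (iter3.getD k.val []))) i =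
      vec 3 (iter3.getD (k.val + 1) []) i := by
  decide +kernel

theorem iter3_ne : ∃ i : (T2).I, vec 3 (iter3.getD 3 []) i ≠ vec 3 (iter3.getD 0 []) i := by
  decide +kernel

/-- Iterates of a vector in characteristic 5. -/
def iter5 : List (List ℕ) :=
  [[0, 1, 0, 0, 0, 0, 0, 0, 0, 0, 0, 0, 0, 0], [0, 1, 0, 0, 0, 0, 0, 0, 3, 1, 1, 0, 0, 0], [0, 1, 0, 0, 0, 0, 0, 0, 1, 2, 0, 1, 0, 0], [0, 1, 0, 0, 0, 0, 0, 0, 4, 3, 2, 2, 4, 4], [0, 1, 0, 0, 0, 0, 0, 0, 2, 4, 2, 2, 3, 2], [0, 1, 0, 0, 0, 0, 0, 0, 0, 0, 0, 0, 0, 2]]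

theorem iter5_step : ∀ k : Fin 5, ∀ i : (T2).I,
    (X (T := T2) (ZMod 5) 6 1 *ᵥ (X (T := T2) (ZMod 5) 7 1 *ᵥ vec 5 (iter5.getD k.val []))) i =
      vec 5 (iter5.getD (k.val + 1) []) i := by
  decide +kernel

theorem iter5_ne : ∃ i : (T2).I, vec 5 (iter5.getD 5 []) i ≠ vec 5 (iter5.getD 0 []) i := by
  decide +kernel

theorem pow_ne_one_of_iter {p : ℕ} [Fact p.Prime] {L : List (List ℕ)}
    (hstep : ∀ k : Fin p, ∀ i : (T2).I,
      (X (T := T2) (ZMod p) 6 1 *ᵥ (X (T := T2) (ZMod p) 7 1 *ᵥ vec p (L.getD k.val []))) i =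
        vec p (L.getD (k.val + 1) []) i)
    (hne : ∃ i : (T2).I, vec p (L.getD p []) i ≠ vec p (L.getD 0 []) i) :
    ((T2).xU (ZMod p) 6 1 * (T2).xU (ZMod p) 7 1) ^ p ≠ 1 := by
  intro h
  set g := (T2).xU (ZMod p) 6 1 * (T2).xU (ZMod p) 7 1 with hg
  have key : ∀ k, k ≤ p → ((g ^ k : GL (T2).I (ZMod p)) : Matrix (T2).I (T2).I (ZMod p)) *ᵥ
      vec p (L.getD 0 []) = vec p (L.getD k []) := by
    intro k
    induction k with
    | zero => intro _; rw [pow_zero, Units.val_one, one_mulVec]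
    | succ k ih =>
      intro hk
      rw [pow_succ', Units.val_mul, ← mulVec_mulVec, ih (by omega), hg, Units.val_mul,
        xU_val hT2 (show 6 < (T2).n by decide +kernel), xU_val hT2 (show 7 < (T2).n by decide +kernel),
        ← mulVec_mulVec]
      exact funext fun i => hstep ⟨k, by omega⟩ i
  have h1 := key p le_rfl
  rw [h, Units.val_one, one_mulVec] at h1
  obtain ⟨i, hi⟩ := hne
  exact hi (congrFun h1.symm i)

/-- An element of order `p ^ 2` for `p` three or five. -/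
theorem exists_sq {F : Type*} [Field F] [Fintype F] {p : ℕ} [Fact p.Prime] [CharP F p]
    (hp : p = 3 ∨ p = 5) : ∃ g ∈ (T2).datum.group F, orderOf g = p ^ 2 := by
  set g0 := (T2).xU (ZMod p) 6 1 * (T2).xU (ZMod p) 7 1 with hg0
  have hg : g0 ∈ G2Orders.U (ZMod p) 6 :=
    mul_mem (G2Orders.x_mem (by decide +kernel) le_rfl _) (G2Orders.x_mem (by decide +kernel) (by norm_num) _)
  have hn : g0 ^ p ≠ 1 := by
    rcases hp with rfl | rfl
    · exact pow_ne_one_of_iter iter3_step iter3_ne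
    · exact pow_ne_one_of_iter iter5_step iter5_ne
  have h2 : g0 ^ (p ^ 2) = 1 := pow_sq (by omega) hg
  refine ⟨mapGL T2 (ZMod.castHom dvd_rfl F) g0, map_group _ hT2 ⟨g0, ?_, rfl⟩, ?_⟩
  · exact rootGen_le (fun r hr _ t => xU_mem_group hT2 hr t) hg
  · rw [orderOf_injective _ (mapGL_inj _)]
    exact orderOf_eq_prime_pow (n := 1) (by rw [pow_one]; exact hn) h2

end CfsgLib.Chevalley.G2OddOrders
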