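import Cfsg.Agent.Lib.Chevalley.G2OddOrders.Torus
import Cfsg.Agent.Lib.Chevalley.G2OddOrders.Regular
import Cfsg.Agent.Lib.Chevalley.G2Orders.Exists

/-!
Elements of the maximal orders of G₂ in odd characteristic.
-/

set_option autoImplicit false
set_option maxRecDepth 20000

namespace CfsgLib.Chevalley.G2OddOrders

open Tbl
open CfsgLib.Chevalley.CoxeterTorus
open CfsgLib.KnownB.FieldAut (mapGL mapGL_inj map_torus map_group fixed_mem)
open scoped MatrixGroups

local notation "T2" => Data.G2.tbl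
local notation "hT2" => Data.G2.valid
local notation "hC2" => Data.G2.chkComm

theorem refl_long : ∀ s : Fin (T2).n, (T2).co ((T2).refl 1 s.val) 0 = (T2).co s.val 0 ∧
    (T2).co ((T2).refl 1 s.val) 1 = (T2).co s.val 0 - (T2).co s.val 1 := by
  decide +kernel

theorem simple_long : (T2).simple 1 = 6 := by decide +kernel

theorem rank_eq : (T2).rank = 2 := by decide +kernel

variable {F : Type*} [Field F] [Fintype F] {p : ℕ} [Fact p.Prime] [CharP F p]

/-- The cyclic torus of order `q ^ 2 - 1` inside the Levi subgroup of a long root. -/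
theorem exists_levi_torus (hp2 : p ≠ 2) {q : ℕ} (hF : Fintype.card F = q) :
    ∃ g ∈ (T2).datum.group F, orderOf g = q ^ 2 - 1 := by
  classical
  obtain ⟨E, _, _, L, _, _, ι0, j, σ, hσ, hfix, hE, hL⟩ := exists_tower hF
  set ι : F →+* L := j.comp ι0
  have : CharP L p := charP_of_injective_ringHom ι.injective p
  have hq1 : 1 < q := hF ▸ Fintype.one_lt_card
  have hqo : Odd q := by
    obtain ⟨d, hpp, hd⟩ := FiniteField.card F p
    rw [← hF, hd]; exact (hpp.odd_of_ne_two hp2).pow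
  have hq2 : 1 < q ^ 2 := Nat.one_lt_pow (by norm_num) hq1
  -- a root of unity of order `2 (q ^ 2 - 1)`
  have hdvd : 2 * (q ^ 2 - 1) ∣ Nat.card Lˣ := by
    rw [Nat.card_units, Nat.card_eq_fintype_card, hL]
    refine Dvd.dvd.trans ?_ (Nat.pow_sub_one_dvd_pow_sub_one q (show 4 ∣ 576 by norm_num))
    rw [show q ^ 4 = (q ^ 2) ^ 2 by rw [← pow_mul], show (q ^ 2) ^ 2 - 1 = (q ^ 2) ^ 2 - 1 ^ 2 by rw [one_pow],
      Nat.sq_sub_sq]
    refine mul_dvd_mul_right ?_ _
    obtain ⟨c, hc⟩ := hqo.pow (n := 2)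
    exact ⟨c + 1, by omega⟩
  obtain ⟨z, hz⟩ := IsCyclic.exists_ofOrder_eq_natCard (α := Lˣ)
  set ω : Lˣ := z ^ (Nat.card Lˣ / (2 * (q ^ 2 - 1)))
  have hω : orderOf ω = 2 * (q ^ 2 - 1) := by
    show orderOf (z ^ _) = _
    rw [← hz]
    exact orderOf_pow_orderOf_div (orderOf_pos z).ne' (hz ▸ hdvd)
  set c : Lˣ := ω ^ 2 with hc
  have hco : orderOf c = q ^ 2 - 1 := by
    rw [hc, orderOf_pow' ω two_ne_zero, hω, Nat.gcd_mul_right_left, Nat.mul_div_cancel_left _ two_pos]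
  have hωh : (ω : L) ^ (q ^ 2 - 1) = -1 := by
    have h1 : ((ω : L) ^ (q ^ 2 - 1)) * ((ω : L) ^ (q ^ 2 - 1)) = 1 := by
      rw [← pow_add, ← Units.val_pow_eq_pow_val, show q ^ 2 - 1 + (q ^ 2 - 1) = orderOf ω by omega,
        pow_orderOf_eq_one, Units.val_one]
    refine (mul_self_eq_one_iff.1 h1).resolve_left fun h => ?_
    have h2 : ω ^ (q ^ 2 - 1) = 1 := Units.ext (by rw [Units.val_pow_eq_pow_val, h, Units.val_one])
    have h3 := Nat.le_of_dvd (by omega) (orderOf_dvd_of_pow_eq_one h2)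
    omega
  have hcq : (c : L) ^ q ^ 2 = c := by
    rw [← Units.val_pow_eq_pow_val, show q ^ 2 = q ^ 2 - 1 + 1 by omega, pow_succ, ← hco,
      pow_orderOf_eq_one, one_mul]
  have hcne : (c : L) ^ q - c ≠ 0 := by
    rw [sub_ne_zero, ← Units.val_pow_eq_pow_val]
    intro h
    have h2 : c ^ (q - 1) = 1 := mul_right_cancel (b := c) (by
      rw [← pow_succ, Nat.sub_add_cancel hq1.le, one_mul]; exact Units.ext h)
    have h3 := Nat.le_of_dvd (by omega) (hco ▸ orderOf_dvd_of_pow_eq_one h2)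
    have : q < q ^ 2 := by rw [pow_two]; exact lt_mul_of_one_lt_left (by omega) hq1
    omega
  -- scale to determinant one
  set D : L := (ω : L) ^ (q + 1) * ((c : L) ^ q - c) with hD
  have hD0 : D ≠ 0 := mul_ne_zero (pow_ne_zero _ ω.ne_zero) hcne
  have hωq2 : (ω : L) ^ q ^ 2 = -(ω : L) := by
    rw [show q ^ 2 = q ^ 2 - 1 + 1 by omega, pow_succ, hωh, neg_one_mul]
  have hDq : D ^ q = D := by
    have h1 : (((c : L) ^ q - c) ^ q) = -((c : L) ^ q - c) := by
      rw [← hσ, map_sub, map_pow, hσ, ← pow_mul, ← pow_two, hcq, neg_sub]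
    rw [hD, mul_pow, h1, ← pow_mul, show (q + 1) * q = q ^ 2 + q by ring, pow_add, hωq2, pow_succ]
    ring
  obtain ⟨μ, hμ⟩ : ∃ μ : Lˣ, (μ : L) ^ (q + 1) = D⁻¹ ∧ μ ^ (q ^ 2 - 1) = 1 := by
    have hq21 : q ^ 2 - 1 = (q + 1) * (q - 1) := by
      rw [show q ^ 2 - 1 = q ^ 2 - 1 ^ 2 by rw [one_pow], Nat.sq_sub_sq]
    have hprim : IsPrimitiveRoot (c ^ (q + 1)) (q - 1) := by
      refine IsPrimitiveRoot.iff_orderOf.2 ?_
      rw [orderOf_pow' c (by omega), hco, hq21, Nat.gcd_mul_right_left, Nat.mul_div_cancel_left _ (by omega)]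
    have hD1 : (Units.mk0 D hD0)⁻¹ ^ (q - 1) = 1 := by
      rw [inv_pow, inv_eq_one]
      refine mul_right_cancel (b := Units.mk0 D hD0) ?_
      rw [← pow_succ, Nat.sub_add_cancel hq1.le, one_mul]
      exact Units.ext hDq
    have : NeZero (q - 1) := ⟨by omega⟩
    obtain ⟨k, -, hk⟩ := hprim.eq_pow_of_mem_rootsOfUnity ((mem_rootsOfUnity _ _).2 hD1)
    refine ⟨c ^ k, ?_, ?_⟩
    · rw [← Units.val_pow_eq_pow_val, ← pow_mul, mul_comm, pow_mul, hk, Units.val_inv_eq_inv_val,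
        Units.val_mk0]
    · rw [← pow_mul, mul_comm, pow_mul, ← hco, pow_orderOf_eq_one, one_pow]
  set a : L := (μ : L) * ω
  have haq : a ^ q ^ 2 = -a := by
    rw [mul_pow, hωq2, show q ^ 2 = q ^ 2 - 1 + 1 by omega, pow_succ, ← Units.val_pow_eq_pow_val, hμ.2,
      Units.val_one, one_mul, mul_neg]
  have hdet : a * (a * c) ^ q - a * c * a ^ q = 1 := by
    have h : a ^ (q + 1) * ((c : L) ^ q - c) = 1 := by
      rw [mul_pow, mul_assoc, ← hD, hμ.1, inv_mul_cancel₀ hD0]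
    rw [← h, mul_pow, pow_succ]; ring
  let M : SL(2, L) := ⟨!![a, a * c; a ^ q, (a * c) ^ q], by rw [Matrix.det_fin_two_of]; exact hdet⟩
  have hM : Matrix.SpecialLinearGroup.map σ M = SL2.wn * M := by
    apply Subtype.ext
    rw [SL2.val_wn_mul]
    show (!![a, a * c; a ^ q, (a * c) ^ q]).map σ = _
    ext i j
    fin_cases i <;> fin_cases j <;> simp [M, hσ, ← pow_mul, ← pow_two, mul_pow, haq, hcq]
  set x : GL (T2).I L := ((G2Inv.phi G2Inv.h6 M : G2Inv.GG L) : GL (T2).I L) with hxdef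
  have hx : x ∈ (T2).datum.group L := (G2Inv.phi G2Inv.h6 M).2
  have hσx : mapGL T2 σ x * x⁻¹ = (T2).nU L ((T2).simple 1) 1 := by
    rw [hxdef, map_phi, hM, map_mul, Subgroup.coe_mul, mul_inv_cancel_right, G2Inv.coe_phi_wn, simple_long]
  -- the torus element
  obtain ⟨f, hf⟩ := powMat_surjective hT2 (G2Orders.torus_inj (K := L))
    (fun i : Fin (T2).rank => if i.val = 0 then c else c ^ (q - 1))
  have hch : ∀ s : Fin (T2).n, tCh T2 f s.val =
      c ^ (T2).co s.val 0 * (c ^ (q - 1)) ^ (T2).co s.val 1 := fun s => by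
    rw [tCh_linear hT2 f s]
    simp only [hf]
    show ∏ i : Fin 2, (if i.val = 0 then c else c ^ (q - 1)) ^ (T2).co s.val i.val = _
    rw [Fin.prod_univ_two]
    rfl
  have pz : ∀ (x : Lˣ) (z : ℤ) (n : ℕ), (x ^ z) ^ n = (x ^ n) ^ z := fun x z n => by
    rw [← zpow_natCast (x ^ z) n, ← _root_.zpow_mul, mul_comm, _root_.zpow_mul, zpow_natCast]
  have hfo : orderOf f = q ^ 2 - 1 := by
    refine Nat.dvd_antisymm (orderOf_dvd_of_pow_eq_one (G2Orders.pow_of_ch fun s => ?_)) ?_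
    · have hcN : c ^ (q ^ 2 - 1) = 1 := hco ▸ pow_orderOf_eq_one c
      rw [hch, mul_pow, pz, pz, hcN, ← pow_mul, Nat.mul_comm (q - 1), pow_mul, hcN]
      simp
    · rw [← hco]
      refine orderOf_dvd_of_pow_eq_one ?_
      have h := G2Orders.ch_of_pow (pow_orderOf_eq_one f) ((T2).simple (⟨0, by decide⟩ : Fin (T2).rank).val)
      rw [hf] at h
      simpa using h
  set w := (T2).refP hT2 ⟨1, by decide⟩
  have hrel : ∀ s : Fin (T2).n, tCh T2 (f ^ q) (w s).val = tCh T2 f s.val := by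
    intro s
    obtain ⟨h0, h1⟩ := refl_long s
    have hη : (c ^ (q - 1)) ^ q = (c ^ (q - 1))⁻¹ := by
      refine eq_inv_of_mul_eq_one_left ?_
      rw [← pow_succ, ← pow_mul, show (q - 1) * (q + 1) = q ^ 2 - 1 by
        rw [mul_comm, ← Nat.sq_sub_sq, one_pow], ← hco, pow_orderOf_eq_one]
    have hξ : c ^ q = c * c ^ (q - 1) := by rw [← pow_succ', Nat.sub_add_cancel hq1.le]
    rw [tCh_pow, hch, hch, refP_apply, h0, h1, mul_pow, pz, pz, hη, hξ, mul_zpow,
      inv_zpow', mul_assoc, ← _root_.zpow_add]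
    congr 2
    ring
  set t := torusHom T2 L f
  have hn : (T2).nU L ((T2).simple 1) 1 * t = t ^ q * (T2).nU L ((T2).simple 1) 1 := by
    rw [← map_pow]
    exact (mono_rel hT2 (nU_simple_mem_N hT2 ⟨1, by decide⟩)
      (mono_nU_simple (F := L) hT2 ⟨1, by decide⟩) f (f ^ q)).2 hrel
  have hσf : mapGL T2 σ t = t ^ q := by
    rw [map_torus, ← map_pow]
    exact congrArg _ (funext fun i => Units.ext (by simp [hσ]))
  have hzfix : mapGL T2 σ (x⁻¹ * t * x) = x⁻¹ * t * x := by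
    rw [← hσx] at hn
    rw [map_mul, map_mul, map_inv, hσf]
    calc (mapGL T2 σ x)⁻¹ * t ^ q * mapGL T2 σ x
        = (mapGL T2 σ x)⁻¹ * (t ^ q * (mapGL T2 σ x * x⁻¹)) * x := by group
      _ = x⁻¹ * t * x := by rw [← hn]; group
  obtain ⟨g, hg, hgz⟩ := fixed_mem hT2 hC2 σ ι hfix (G2Orders.torus_inj (K := L))
    (mul_mem (mul_mem (inv_mem hx) (diag_le_group hT2 (G2Orders.torus_mem f))) hx) hzfix
  refine ⟨g, hg, ?_⟩
  rw [← orderOf_injective _ (mapGL_inj ι), hgz]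
  have hc' : x⁻¹ * t * x = MulAut.conj x⁻¹ t := by simp
  rw [hc', MulEquiv.orderOf_eq, orderOf_injective _ (G2Orders.torus_inj (K := L)), hfo]

theorem exists_orders (hp2 : p ≠ 2) {q : ℕ} (hF : Fintype.card F = q) (hq : 5 ≤ q) :
    (∀ n ∈ [p * (q + 1), p * (q - 1), q ^ 2 - 1, q ^ 2 + q + 1, q ^ 2 - q + 1],
      ∃ g ∈ (T2).datum.group F, orderOf g = n) := by
  classical
  have hpp : p.Prime := Fact.out
  obtain ⟨d, -, hd⟩ := FiniteField.card F p
  have hqp : p ∣ q := by rw [← hF, hd]; exact dvd_pow_self p d.2.ne'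
  have htorus : ∀ {e P : ℕ}, e = 3 ∨ e = 6 → (Polynomial.cyclotomic e ℤ).eval (q : ℤ) = (P : ℤ) → e < P →
      (∀ p : ℕ, p.Prime → p ^ 2 ∣ P → ¬ p ∣ e) → ∃ g ∈ (T2).datum.group F, orderOf g = P := by
    intro e P he hP hlt hsq
    obtain ⟨H, hc, hH, -⟩ := instanceTorus hT2 hC2 Data.G2.chkSmith (by decide) rfl hF (by omega)
      (by rcases he with rfl | rfl <;> decide) hP hlt hsq G2_card_WP
      (fun ℓ hℓ h => by
        rw [show (12 : ℕ) = 2 ^ 2 * 3 from rfl] at h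
        rcases hℓ.dvd_mul.1 h with h | h
        · have := Nat.le_of_dvd (by norm_num) (hℓ.dvd_of_dvd_pow h); omega
        · have := Nat.le_of_dvd (by norm_num) h; omega)
      (by
        rw [Data.G2.datum_eq, Cfsg.Agent.S1059.result hF]
        exact dvd_mul_of_dvd_right (Nat.pow_sub_one_dvd_pow_sub_one q (by
          rcases he with rfl | rfl <;> norm_num)) _)
    obtain ⟨g, hg⟩ := hc.exists_ofOrder_eq_natCard
    exact ⟨(g : ↥((T2).datum.group F)), SetLike.coe_mem _, by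
      rw [Subgroup.orderOf_coe, Subgroup.orderOf_coe, hg, hH]⟩
  obtain ⟨em, hem⟩ := Classical.exists_sl2_minus (F := F)
  obtain ⟨ep, hep⟩ := Classical.exists_sl2_plus (F := F) p
  rw [hF] at hem hep
  have hpu : orderOf (G2Inv.fb (SL2.ux (1 : F)) : G2Inv.GG F) = p := by
    have hc : ((G2Inv.fb (SL2.ux (1 : F)) : G2Inv.GG F) : GL (T2).I F) = (T2).xU F 11 1 :=
      G2Inv.coe_phi_ux G2Inv.h11 1
    rw [← Subgroup.orderOf_coe, hc]
    refine orderOf_eq_prime ?_ fun h => ?_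
    · rw [xU_pow G2Inv.h11, CharP.cast_eq_zero, zero_mul, xU_zero hT2 G2Inv.h11]
    · exact one_ne_zero (xU_inj hT2 G2Inv.h11 (h.trans (xU_zero hT2 G2Inv.h11).symm))
  have hprod : ∀ e : SL(2, F), ∀ k, orderOf e = k → p.Coprime k →
      ∃ g ∈ (T2).datum.group F, orderOf g = p * k := by
    intro e k hk hcop
    refine ⟨((G2Inv.fa e * G2Inv.fb (SL2.ux 1) : G2Inv.GG F) : GL (T2).I F), SetLike.coe_mem _, ?_⟩
    have he : orderOf (G2Inv.fa e : G2Inv.GG F) = k := by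
      rw [orderOf_injective _ G2Inv.fa_injective, hk]
    rw [Subgroup.orderOf_coe, (G2Inv.fa_fb_commute e _).orderOf_mul_eq_mul_orderOf_of_coprime
      (by rw [he, hpu]; exact hcop.symm), he, hpu, mul_comm]
  have hcop : ∀ k, k = q + 1 ∨ k = q - 1 → p.Coprime k := fun k hk => by
    refine hpp.coprime_iff_not_dvd.2 fun h => hpp.ne_one ?_
    rcases hk with rfl | rfl
    · exact Nat.dvd_one.1 ((Nat.dvd_add_right hqp).1 h)
    · have := Nat.dvd_sub hqp h
      rw [show q - (q - 1) = 1 by omega] at this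
      exact Nat.dvd_one.1 this
  simp only [List.forall_mem_cons, List.not_mem_nil, false_imp_iff, implies_true, and_true]
  refine ⟨hprod ep _ hep (hcop _ (Or.inl rfl)), hprod em _ hem (hcop _ (Or.inr rfl)),
    exists_levi_torus hp2 hF, ?_, ?_⟩
  · refine htorus (Or.inl rfl) (by rw [eval_three]; push_cast; ring) (by nlinarith) fun p hp h2 hpe => ?_
    obtain rfl := (Nat.prime_dvd_prime_iff_eq hp Nat.prime_three).1 hpe
    have h9 : ((q ^ 2 + q + 1 : ℕ) : ZMod 9) = 0 := (ZMod.natCast_eq_zero_iff _ _).2 h2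
    exact (show ∀ x : ZMod 9, x ^ 2 + x + 1 ≠ 0 by decide) (q : ZMod 9) (by exact_mod_cast h9)
  · have hqq : q ≤ q ^ 2 := Nat.le_self_pow (by norm_num) q
    have h12 : q * 5 ≤ q ^ 2 := by rw [pow_two]; exact Nat.mul_le_mul_left q hq
    refine htorus (Or.inr rfl) (by rw [G2Orders.eval_six]; push_cast [Nat.cast_sub hqq]; ring) (by omega)
      fun r hr h2 hre => ?_
    have h6 : r = 2 ∨ r = 3 := by
      rcases hr.dvd_mul.1 (show r ∣ 2 * 3 from hre) with h | h
      · exact Or.inl ((Nat.prime_dvd_prime_iff_eq hr Nat.prime_two).1 h)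
      · exact Or.inr ((Nat.prime_dvd_prime_iff_eq hr Nat.prime_three).1 h)
    rcases h6 with rfl | rfl
    · obtain ⟨c, hc⟩ : Even (q ^ 2 - q) := by
        rw [Nat.even_sub hqq]; simp [Nat.even_pow]
      have := (dvd_pow_self 2 (show (2 : ℕ) ≠ 0 by norm_num)).trans h2
      omega
    · have h9 : ((q ^ 2 - q + 1 : ℕ) : ZMod 9) = 0 := (ZMod.natCast_eq_zero_iff _ _).2 h2
      refine (show ∀ x : ZMod 9, x ^ 2 - x + 1 ≠ 0 by decide) (q : ZMod 9) ?_
      rw [Nat.cast_add, Nat.cast_sub hqq] at h9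
      exact_mod_cast h9

end CfsgLib.Chevalley.G2OddOrders
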