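import Cfsg.Agent.Lib.Chevalley.G2Orders.Unipotent
import Cfsg.Agent.Lib.PGroup.PolySeq
import Cfsg.Agent.Lib.PGroup.Regular

/-!
Unipotent elements of G₂ in odd characteristic: their orders, and those commuting with semisimple elements.
-/

set_option autoImplicit false
set_option maxRecDepth 20000

namespace CfsgLib.Chevalley.G2OddOrders

open Tbl
open scoped commutatorElement
open CfsgLib.Chevalley.CoxeterTorus
open CfsgLib.Chevalley.G2Orders (U n_eq half_eq U_le x_mem U_normal)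

local notation "T2" => Data.G2.tbl
local notation "hT2" => Data.G2.valid
local notation "hC2" => Data.G2.chkComm

variable {F : Type*} [Field F]

theorem U12 : U F 12 = ⊥ :=
  (congrArg (U F) n_eq).symm.trans (ge_n_eq_bot (T := T2) (F := F) hT2)

/-- The subgroup of the roots of a list. -/
abbrev S (F : Type*) [Field F] (L : List ℕ) : Subgroup (GL (T2).I F) := (T2).rootGen F (fun r => r ∈ L)

/-- The commutators of two lists of roots stay in a third, up to coefficients divisible by `d`. -/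
def Closes (d : ℕ) (A B C : List ℕ) : Prop :=
  ∀ r ∈ A, ∀ s ∈ B, s = r ∨ (r < 12 ∧ s < 12 ∧ s ≠ (T2).neg r ∧
    ∀ c ∈ (T2).commT r s, c.1 ∈ C ∨ (d : ℤ) ∣ c.2.1)

instance (d : ℕ) (A B C : List ℕ) : Decidable (Closes d A B C) := by unfold Closes; infer_instance

variable {d : ℕ} (hd : (d : F) = 0)
include hd

theorem commutator_gen {A B C : List ℕ} (h : Closes d A B C) {r s : ℕ} (hr : r ∈ A) (hs : s ∈ B)
    (hrn : r < (T2).n) (hsn : s < (T2).n) (t u : F) :
    ⁅(T2).xU F s u, (T2).xU F r t⁆ ∈ S F C := by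
  rcases h r hr s hs with rfl | ⟨-, -, hneg, hc⟩
  · rw [commutatorElement_eq_one_iff_mul_comm.mpr (by rw [xU_add hT2 hrn, xU_add hT2 hrn, add_comm])]
    exact one_mem _
  by_cases hsr : s = r
  · subst hsr
    rw [commutatorElement_eq_one_iff_mul_comm.mpr (by rw [xU_add hT2 hrn, xU_add hT2 hrn, add_comm])]
    exact one_mem _
  have e : ∀ t u : F, ⁅(T2).xU F s (-u), (T2).xU F r (-t)⁆ =
      (((T2).commT r s).map fun c =>
        (T2).xU F c.1 ((c.2.1 : F) * (-t) ^ c.2.2.1 * u ^ c.2.2.2)).prod := fun t u => by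
    have h := comm_xU (F := F) hT2 hC2 hrn hsn hsr hneg t u
    rw [commutatorElement_def, xU_inv hT2 hsn, xU_inv hT2 hrn, neg_neg, neg_neg, mul_assoc, h,
      ← xU_inv hT2 hsn, ← xU_inv hT2 hrn]
    group
  have e' := e (-t) (-u)
  rw [neg_neg, neg_neg] at e'
  rw [e']
  refine list_prod_mem fun y hy => ?_
  obtain ⟨c, hcm, rfl⟩ := List.mem_map.1 hy
  have hcn : c.1 < (T2).n := commT_lt hT2 hrn hsn c hcm
  rcases hc c hcm with h1 | ⟨k, hk⟩
  · exact xU_mem_rootGen (P := fun r => r ∈ C) hcn h1 _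
  · rw [hk, Int.cast_mul, Int.cast_natCast, hd, zero_mul, zero_mul, zero_mul, xU_zero hT2 hcn]
    exact one_mem _

theorem normalizes {A C : List ℕ} (h : Closes d A C C) :
    S F A ≤ Subgroup.normalizer (S F C : Set (GL (T2).I F)) := by
  refine rootGen_le fun r hrn hr t => ?_
  have key : ∀ t : F, ∀ y ∈ S F C, (T2).xU F r t * y * ((T2).xU F r t)⁻¹ ∈ S F C := by
    intro t y hy
    induction hy using Subgroup.closure_induction with
    | mem y hy =>
      obtain ⟨s, hsn, hs, u, rfl⟩ := hy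
      rw [show (T2).xU F r t * (T2).xU F s u * ((T2).xU F r t)⁻¹ =
        (⁅(T2).xU F s u, (T2).xU F r t⁆)⁻¹ * (T2).xU F s u by rw [commutatorElement_def]; group]
      exact mul_mem (inv_mem (commutator_gen hd h hr hs hrn hsn t u))
        (xU_mem_rootGen (P := fun r => r ∈ C) hsn hs u)
    | one => simp
    | mul a b _ _ ha hb =>
      rw [show (T2).xU F r t * (a * b) * ((T2).xU F r t)⁻¹ = ((T2).xU F r t * a * ((T2).xU F r t)⁻¹) *
        ((T2).xU F r t * b * ((T2).xU F r t)⁻¹) by group]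
      exact mul_mem ha hb
    | inv a _ ha =>
      rw [show (T2).xU F r t * a⁻¹ * ((T2).xU F r t)⁻¹ = ((T2).xU F r t * a * ((T2).xU F r t)⁻¹)⁻¹ by group]
      exact inv_mem ha
  rw [Subgroup.mem_normalizer_iff]
  refine fun y => ⟨key t y, fun hy => ?_⟩
  have := key (-t) _ hy
  rw [← xU_inv hT2 hrn] at this
  simpa [mul_assoc] using this

/-- Commutators of two lists land in a third that both normalise. -/
theorem commutator_le_of {A B C : List ℕ} (hAB : Closes d A B C) (hA : Closes d A C C)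
    (hB : Closes d B C C) : ⁅S F B, S F A⁆ ≤ S F C := by
  have hnA := normalizes (F := F) hd hA
  have hnB := normalizes (F := F) hd hB
  rw [Subgroup.commutator_le]
  intro x hx
  induction hx using Subgroup.closure_induction with
  | mem x hx =>
    obtain ⟨s, hsn, hs, u, rfl⟩ := hx
    intro y hy
    induction hy using Subgroup.closure_induction with
    | mem y hy =>
      obtain ⟨r, hrn, hr, t, rfl⟩ := hy
      exact commutator_gen hd hAB hr hs hrn hsn t u
    | one => simp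
    | mul a b ha _ iha ihb =>
      rw [show ⁅(T2).xU F s u, a * b⁆ = ⁅(T2).xU F s u, a⁆ * (a * ⁅(T2).xU F s u, b⁆ * a⁻¹) by
        simp only [commutatorElement_def]; group]
      exact mul_mem iha ((Subgroup.mem_normalizer_iff.1 (hnA ha) _).1 ihb)
    | inv a ha iha =>
      rw [show ⁅(T2).xU F s u, a⁻¹⁆ = a⁻¹ * ⁅(T2).xU F s u, a⁆⁻¹ * a⁻¹⁻¹ by
        simp only [commutatorElement_def]; group]
      exact (Subgroup.mem_normalizer_iff.1 (hnA (inv_mem ha)) _).1 (inv_mem iha)
  | one => simp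
  | mul a b ha _ iha ihb =>
    intro y hy
    rw [show ⁅a * b, y⁆ = (a * ⁅b, y⁆ * a⁻¹) * ⁅a, y⁆ by simp only [commutatorElement_def]; group]
    exact mul_mem ((Subgroup.mem_normalizer_iff.1 (hnB ha) _).1 (ihb y hy)) (iha y hy)
  | inv a ha iha =>
    intro y hy
    rw [show ⁅a⁻¹, y⁆ = a⁻¹ * ⁅a, y⁆⁻¹ * a⁻¹⁻¹ by simp only [commutatorElement_def]; group]
    exact (Subgroup.mem_normalizer_iff.1 (hnB (inv_mem ha)) _).1 (inv_mem (iha y hy))

omit hd

theorem xU_pow {r : ℕ} (hr : r < (T2).n) (t : F) (k : ℕ) :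
    (T2).xU F r t ^ k = (T2).xU F r (k * t) := by
  induction k with
  | zero => rw [pow_zero, Nat.cast_zero, zero_mul, xU_zero hT2 hr]
  | succ k ih => rw [pow_succ, ih, xU_add hT2 hr, Nat.cast_succ, add_mul, one_mul]

variable [Fintype F] {p : ℕ} [Fact p.Prime] [CharP F p]

/-- A group of root elements of class less than `p` has exponent `p`. -/
theorem exp_prime {P : ℕ → Prop} (hP : ∀ r < (T2).n, P r → 6 ≤ r)
    (hcl : ((T2).rootGen F P).lowerCentralSeries (p - 1) = ⊥) {x : GL (T2).I F}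
    (hx : x ∈ (T2).rootGen F P) : x ^ p = 1 := by
  classical
  set H := (T2).rootGen F P with hH
  obtain ⟨n, -, hn⟩ := FiniteField.card F p
  have hU : IsPGroup p ↥(U F 6) := IsPGroup.of_card (n := n * 6) (by
    rw [card_ge hT2 hC2 6 6 (by rw [n_eq]) (by rw [half_eq]), hn, ← pow_mul])
  have hG : IsPGroup p ↥H := hU.to_le (rootGen_mono hP)
  have hreg := PGroup.PolySeq.regular_of_class_lt hG (by
    refine Subgroup.map_injective (Subgroup.subtype_injective H) ?_
    rw [Subgroup.map_bot, Subgroup.top_subtype_lowerCentralSeries]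
    exact hcl)
  have htop : H ≤ (PGroup.Regular.omega hreg 1).map H.subtype := by
    refine rootGen_le fun r hr hPr t => ?_
    refine ⟨⟨(T2).xU F r t, xU_mem_rootGen hr hPr t⟩, ?_, rfl⟩
    refine Subtype.ext ?_
    show (T2).xU F r t ^ (p ^ 1) = 1
    rw [pow_one, xU_pow hr, CharP.cast_eq_zero, zero_mul, xU_zero hT2 hr]
  obtain ⟨y, hy, rfl⟩ := htop hx
  have h1 : y ^ (p ^ 1) = 1 := hy
  rw [pow_one] at h1
  exact congrArg Subtype.val h1

theorem closes_data :
    (Closes 3 [7, 8, 9, 10, 11] [7, 8, 9, 10, 11] [9] ∧ Closes 3 [7, 8, 9, 10, 11] [9] [] ∧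
      Closes 3 [7, 8, 9, 10, 11] [9] [9]) ∧
    (Closes 0 [7, 8, 9, 10, 11] [7, 8, 9, 10, 11] [9, 10, 11] ∧
      Closes 0 [7, 8, 9, 10, 11] [9, 10, 11] [9, 10, 11] ∧
      Closes 0 [7, 8, 9, 10, 11] [9, 10, 11] [10, 11] ∧ Closes 0 [7, 8, 9, 10, 11] [10, 11] [10, 11] ∧
      Closes 0 [9, 10, 11] [10, 11] [10, 11] ∧ Closes 0 [7, 8, 9, 10, 11] [10, 11] []) ∧
    (Closes 0 [6, 8, 9, 10, 11] [6, 8, 9, 10, 11] [11] ∧ Closes 0 [6, 8, 9, 10, 11] [11] [11] ∧
      Closes 0 [6, 8, 9, 10, 11] [11] []) := by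
  decide +kernel

theorem closes_nil (d : ℕ) (A : List ℕ) : Closes d A [] [] := fun _ _ _ h => absurd h List.not_mem_nil

omit [Fintype F] [Fact p.Prime] [CharP F p] in
theorem S_nil : S F [] = ⊥ :=
  le_bot_iff.1 (rootGen_le fun _ _ h => absurd h List.not_mem_nil)

/-- The group without the long fundamental root has exponent `p`. -/
theorem exp_short (hp : 3 ≤ p) {x : GL (T2).I F} (hx : x ∈ S F [7, 8, 9, 10, 11]) : x ^ p = 1 := by
  obtain ⟨⟨a1, a2, a3⟩, ⟨b1, b2, b3, b4, b5, b6⟩, -⟩ := closes_data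
  set A := S F [7, 8, 9, 10, 11]
  refine exp_prime (P := fun r => r ∈ [7, 8, 9, 10, 11]) (fun r _ hr => by simp at hr; omega) ?_ hx
  rcases (show p = 3 ∨ 4 ≤ p by omega) with rfl | h4
  · have h3 : ((3 : ℕ) : F) = 0 := CharP.cast_eq_zero F 3
    have l1 : A.lowerCentralSeries 1 ≤ S F [9] := commutator_le_of h3 a1 a3 a3
    refine le_bot_iff.1 ((le_trans ?_ (commutator_le_of h3 a2 (closes_nil _ _) (closes_nil _ _))).trans
      S_nil.le)
    exact Subgroup.commutator_mono l1 le_rfl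
  · have h0 : ((0 : ℕ) : F) = 0 := Nat.cast_zero
    have l1 : A.lowerCentralSeries 1 ≤ S F [9, 10, 11] := commutator_le_of h0 b1 b2 b2
    have l2 : A.lowerCentralSeries 2 ≤ S F [10, 11] :=
      (Subgroup.commutator_mono l1 le_rfl).trans (commutator_le_of h0 b3 b4 b5)
    have l3 : A.lowerCentralSeries 3 ≤ ⊥ :=
      ((Subgroup.commutator_mono l2 le_rfl).trans
        (commutator_le_of h0 b6 (closes_nil _ _) (closes_nil _ _))).trans S_nil.le
    exact le_bot_iff.1 ((Subgroup.lowerCentralSeries_antitone _ (show 3 ≤ p - 1 by omega)).trans l3)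

/-- The group without the short fundamental root has exponent `p`. -/
theorem exp_long (hp : 3 ≤ p) {x : GL (T2).I F} (hx : x ∈ S F [6, 8, 9, 10, 11]) : x ^ p = 1 := by
  obtain ⟨-, -, c1, c2, c3⟩ := closes_data
  set B := S F [6, 8, 9, 10, 11]
  refine exp_prime (P := fun r => r ∈ [6, 8, 9, 10, 11]) (fun r _ hr => by simp at hr; omega) ?_ hx
  have h0 : ((0 : ℕ) : F) = 0 := Nat.cast_zero
  have l1 : B.lowerCentralSeries 1 ≤ S F [11] := commutator_le_of h0 c1 c2 c2
  have l2 : B.lowerCentralSeries 2 ≤ ⊥ :=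
    ((Subgroup.commutator_mono l1 le_rfl).trans
      (commutator_le_of h0 c3 (closes_nil _ _) (closes_nil _ _))).trans S_nil.le
  exact le_bot_iff.1 ((Subgroup.lowerCentralSeries_antitone _ (show 2 ≤ p - 1 by omega)).trans l2)

/-- For `p` at least seven the whole group has exponent `p`. -/
theorem exp_all (hp : 7 ≤ p) {x : GL (T2).I F} (hx : x ∈ U F 6) : x ^ p = 1 := by
  refine exp_prime (P := fun r => 6 ≤ r) (fun _ _ h => h) ?_ hx
  have key : ∀ j, (U F 6).lowerCentralSeries j ≤ U F (6 + j) := by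
    intro j
    induction j with
    | zero => exact le_rfl
    | succ j ih =>
      refine (Subgroup.commutator_mono ih le_rfl).trans (Subgroup.commutator_le.2 fun g hg y hy => ?_)
      exact commutator_mem hT2 hC2 (k := 6 + j) (by rw [half_eq]; exact Nat.le_add_right 6 j) hg (by rw [half_eq]; exact hy)
  exact le_bot_iff.1 ((Subgroup.lowerCentralSeries_antitone _ (show 6 ≤ p - 1 by omega)).trans
    ((key 6).trans U12.le))

/-- The coefficients on the two fundamental roots. -/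
def Form (a b : F) (u : GL (T2).I F) : Prop :=
  ∃ r ∈ U F 8, u = (T2).xU F 6 a * (T2).xU F 7 b * r

theorem Form.mem {a b : F} {u : GL (T2).I F} (h : Form a b u) : u ∈ U F 6 := by
  obtain ⟨r, hr, rfl⟩ := h
  exact mul_mem (mul_mem (x_mem (by decide +kernel) le_rfl _) (x_mem (by decide +kernel) (by norm_num) _))
    (U_le (by norm_num) hr)

theorem Form.unique {a b a' b' : F} {u : GL (T2).I F} (h : Form a b u) (h' : Form a' b' u) :
    a = a' ∧ b = b' := by
  obtain ⟨r, hr, rfl⟩ := h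
  obtain ⟨r', hr', e⟩ := h'
  rw [mul_assoc, mul_assoc] at e
  obtain ⟨e1, e2⟩ := xU_mul_inj hT2 hC2 (k := 6) (by decide +kernel) (by decide +kernel)
    (mul_mem (x_mem (by decide +kernel) le_rfl _) (U_le (by norm_num) hr))
    (mul_mem (x_mem (by decide +kernel) le_rfl _) (U_le (by norm_num) hr')) e
  exact ⟨e1, (xU_mul_inj hT2 hC2 (k := 7) (by decide +kernel) (by decide +kernel) hr hr' e2).1⟩

omit [Fintype F] [Fact p.Prime] [CharP F p] in
theorem swap67 (t u : F) : ∃ W ∈ U F 8, (T2).xU F 7 u * (T2).xU F 6 t = (T2).xU F 6 t * (T2).xU F 7 u * W := by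
  refine ⟨_, list_prod_mem fun y hy => ?_,
    comm_xU hT2 hC2 (by decide +kernel) (by decide +kernel) (by decide) (by decide +kernel) t u⟩
  obtain ⟨c, hc, rfl⟩ := List.mem_map.1 hy
  exact x_mem (commT_lt hT2 (by decide +kernel) (by decide +kernel) c hc)
    ((show ∀ c ∈ (T2).commT 6 7, 8 ≤ c.1 by decide +kernel) c hc) _

omit [Fintype F] [Fact p.Prime] [CharP F p] in
theorem Form.mul {a b a' b' : F} {u u' : GL (T2).I F} (h : Form a b u) (h' : Form a' b' u') :
    Form (a + a') (b + b') (u * u') := by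
  obtain ⟨r, hr, rfl⟩ := h
  obtain ⟨r', hr', rfl⟩ := h'
  have hx6 : ∀ t : F, (T2).xU F 6 t ∈ U F 6 := fun t => x_mem (by decide +kernel) le_rfl t
  have hx7 : ∀ t : F, (T2).xU F 7 t ∈ U F 6 := fun t => x_mem (by decide +kernel) (by norm_num) t
  set y := (T2).xU F 6 a' * (T2).xU F 7 b'
  obtain ⟨W, hW, hswap⟩ := swap67 a' b
  refine ⟨((T2).xU F 7 b')⁻¹ * W * (T2).xU F 7 b' * (y⁻¹ * r * y) * r',
    mul_mem (mul_mem ?_ ?_) hr', ?_⟩
  · simpa using U_normal (by norm_num) (inv_mem (hx7 b')) hW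
  · have h := U_normal (by norm_num) (inv_mem (show y ∈ U F 6 from mul_mem (hx6 a') (hx7 b'))) hr
    rwa [inv_inv] at h
  · rw [← xU_add hT2 (show 6 < (T2).n by decide +kernel), ← xU_add hT2 (show 7 < (T2).n by decide +kernel)]
    calc _ = (T2).xU F 6 a * ((T2).xU F 7 b * (T2).xU F 6 a') * (T2).xU F 7 b' * (y⁻¹ * r * y) * r' := by
          simp only [y]; group
      _ = (T2).xU F 6 a * ((T2).xU F 6 a' * (T2).xU F 7 b * W) * (T2).xU F 7 b' * (y⁻¹ * r * y) * r' := by
          rw [hswap]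
      _ = _ := by group

omit [Fintype F] [Fact p.Prime] [CharP F p] in
theorem Form.one : Form (0 : F) 0 (1 : GL (T2).I F) :=
  ⟨1, one_mem _, by rw [xU_zero hT2 (by decide +kernel), xU_zero hT2 (by decide +kernel)]; simp⟩

omit [Fintype F] [Fact p.Prime] [CharP F p] in
theorem Form.pow {a b : F} {u : GL (T2).I F} (h : Form a b u) : ∀ k : ℕ, Form (k * a) (k * b) (u ^ k)
  | 0 => by simpa using Form.one
  | k + 1 => by
    rw [pow_succ, Nat.cast_succ, add_mul, add_mul, one_mul, one_mul]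
    exact (h.pow k).mul h

theorem exists_form {u : GL (T2).I F} (hu : u ∈ U F 6) : ∃ a b, Form a b u := by
  obtain ⟨a, g, hg, rfl⟩ := (mem_ge_iff hT2 hC2 (k := 6) (by decide +kernel) (by decide +kernel)).1 hu
  obtain ⟨b, r, hr, rfl⟩ := (mem_ge_iff hT2 hC2 (k := 7) (by decide +kernel) (by decide +kernel)).1 hg
  exact ⟨a, b, r, hr, (mul_assoc _ _ _).symm⟩

theorem Form.conj {a b : F} {u g : GL (T2).I F} (hg : g ∈ U F 6) (h : Form a b u) :
    Form a b (g * u * g⁻¹) := by
  obtain ⟨c, d, hgf⟩ := exists_form hg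
  obtain ⟨c', d', hgi⟩ := exists_form (inv_mem hg)
  have e := (hgf.mul hgi)
  rw [mul_inv_cancel] at e
  obtain ⟨e1, e2⟩ := Form.unique e Form.one
  have := (hgf.mul h).mul hgi
  rwa [show c + a + c' = a by linear_combination e1, show d + b + d' = b by linear_combination e2] at this

omit [Fintype F] [Fact p.Prime] [CharP F p] in
theorem U8_le {L : List ℕ} (h : ∀ r < 12, 8 ≤ r → r ∈ L) : U F 8 ≤ S F L :=
  rootGen_mono fun r hr h8 => h r (n_eq ▸ hr) h8

/-- Without one of the fundamental coefficients the order divides `p`. -/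
theorem pow_prime_of_zero (hp : 3 ≤ p) {a b : F} {u : GL (T2).I F} (h : Form a b u) (h0 : a = 0 ∨ b = 0) :
    u ^ p = 1 := by
  obtain ⟨r, hr, rfl⟩ := h
  rcases h0 with rfl | rfl
  · rw [xU_zero hT2 (by decide +kernel), one_mul]
    exact exp_short hp (mul_mem (xU_mem_rootGen (P := fun r => r ∈ [7, 8, 9, 10, 11]) (by decide +kernel)
      (by simp) _) (U8_le (by decide) hr))
  · rw [xU_zero hT2 (show 7 < (T2).n by decide +kernel), mul_one]
    exact exp_long hp (mul_mem (xU_mem_rootGen (P := fun r => r ∈ [6, 8, 9, 10, 11]) (by decide +kernel)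
      (by simp) _) (U8_le (by decide) hr))

/-- The exponent of the unipotent subgroup divides `p ^ 2`, and `p` for `p` at least seven. -/
theorem pow_sq (hp : 3 ≤ p) {u : GL (T2).I F} (hu : u ∈ U F 6) : u ^ (p ^ 2) = 1 := by
  obtain ⟨a, b, h⟩ := exists_form hu
  have h1 := h.pow p
  rw [CharP.cast_eq_zero, zero_mul, zero_mul] at h1
  rw [pow_two, pow_mul]
  exact pow_prime_of_zero hp h1 (Or.inl rfl)

open CfsgLib.KnownB.Steinberg in
/-- An element whose order is a power of `p` is conjugate into the unipotent subgroup. -/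
theorem exists_conj_U {g : GL (T2).I F} (hg : g ∈ (T2).datum.group F) {k : ℕ} (hk : g ^ p ^ k = 1) :
    ∃ h ∈ (T2).datum.group F, h * g * h⁻¹ ∈ U F 6 := by
  obtain ⟨h, -, hh⟩ := exists_conj_pos hT2 hC2 p (Finset.range (T2).rank) (g := ⟨g, hg⟩)
    (by rw [parabolicIn_range hT2 hC2]; exact Subgroup.mem_top _) (by
      obtain ⟨j, -, hj⟩ := (Nat.dvd_prime_pow Fact.out).1
        (orderOf_dvd_of_pow_eq_one (x := (⟨g, hg⟩ : ↥((T2).datum.group F))) (n := p ^ k) (Subtype.ext hk))
      exact ⟨j, hj⟩)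
  refine ⟨h, h.2, ?_⟩
  rw [posUnipotent_rootGen hT2, half_eq] at hh
  exact hh

theorem pow_sq_of_p (hp : 3 ≤ p) {g : GL (T2).I F} (hg : g ∈ (T2).datum.group F) {k : ℕ}
    (hk : g ^ p ^ k = 1) : g ^ (p ^ 2) = 1 := by
  obtain ⟨h, -, hh⟩ := exists_conj_U hg hk
  have := pow_sq hp hh
  rwa [_root_.conj_pow, conj_eq_one_iff] at this

theorem pow_prime_of_p (hp : 7 ≤ p) {g : GL (T2).I F} (hg : g ∈ (T2).datum.group F) {k : ℕ}
    (hk : g ^ p ^ k = 1) : g ^ p = 1 := by
  obtain ⟨h, -, hh⟩ := exists_conj_U hg hk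
  have := exp_all hp hh
  rwa [_root_.conj_pow, conj_eq_one_iff] at this

/-- An element of order `p ^ 2` commutes with no non-trivial element of order prime to `p`. -/
theorem pow_prime_of_commute (hp : 3 ≤ p) {g c : GL (T2).I F} (hg : g ∈ (T2).datum.group F) {k : ℕ}
    (hk : g ^ p ^ k = 1) (hc : c ∈ (T2).datum.group F) {m : ℕ} (hcm : c ^ m = 1) (hcop : p.Coprime m)
    (hc1 : c ≠ 1) (hgc : c * g = g * c) : g ^ p = 1 := by
  classical
  obtain ⟨h, hh, hu⟩ := exists_conj_U hg hk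
  suffices key : (h * g * h⁻¹) ^ p = 1 by
    rwa [_root_.conj_pow, conj_eq_one_iff] at key
  set u := h * g * h⁻¹
  set d := h * c * h⁻¹ with hddef
  have hd : d ∈ (T2).datum.group F := mul_mem (mul_mem hh hc) (inv_mem hh)
  have hdm : d ^ m = 1 := by rw [hddef, _root_.conj_pow, hcm]; group
  have hd1 : d ≠ 1 := fun e => hc1 (conj_eq_one_iff.1 e)
  have hdu : d * u = u * d := by
    calc d * u = h * (c * g) * h⁻¹ := by simp only [hddef, u]; group
      _ = h * (g * c) * h⁻¹ := by rw [hgc]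
      _ = u * d := by simp only [hddef, u]; group
  obtain ⟨a, b, hform⟩ := exists_form hu
  by_contra h4
  have hab : a ≠ 0 ∧ b ≠ 0 :=
    ⟨fun e => h4 (pow_prime_of_zero hp hform (Or.inl e)), fun e => h4 (pow_prime_of_zero hp hform (Or.inr e))⟩
  obtain ⟨b', hb', n, hn, w, hw, hm, u2, hu2, hde⟩ :=
    exists_canonical hT2 hC2 hd
  have hu2U : u2 ∈ U F 6 := by
    have := rootGen_mono (F := F) (T := T2) (Q := fun r => (T2).half ≤ r) (fun r _ hr => hr.2.1) hu2
    rwa [half_eq] at this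
  have hw1 : w = 1 := by
    by_contra hne
    obtain ⟨i, hi⟩ : ∃ i, (w ((T2).simpF hT2 i)).val < (T2).half := by
      by_contra hall
      push Not at hall
      exact hne (eq_one_of_pos hT2 hw fun i => hall i)
    obtain ⟨p, hp, q, hq, hpq⟩ := exists_factor hT2 hC2 ((T2).posSet w) ((T2).negSet w) (fun r hr hrp => by
      rcases Nat.lt_or_ge (w ⟨r, hr⟩).val (T2).half with h | h
      · exact Or.inr ⟨hr, hrp, h⟩
      · exact Or.inl ⟨hr, hrp, h⟩) (T2).half (T2).half (Nat.two_mul _).symm le_rfl _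
      (show u2 * u ∈ (T2).rootGen F (fun r => (T2).half ≤ r) by rw [half_eq]; exact mul_mem hu2U hu)
    have hu6B : u ∈ (T2).datum.borelSubgroup F := Subgroup.mem_sup_left (by
      rw [posUnipotent_rootGen hT2, half_eq]; exact hu)
    have hnp : n * p * n⁻¹ ∈ (T2).datum.borelSubgroup F := Subgroup.mem_sup_left (by
      rw [posUnipotent_rootGen hT2]
      exact conj_mem_rootGen hT2 hm (fun s ⟨_, _, h⟩ => h) hp)
    have he : b' * (n * p * n⁻¹) * n * q = u * b' * n * u2 := by
      calc b' * (n * p * n⁻¹) * n * q = b' * n * (p * q) := by group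
        _ = b' * n * u2 * u := by rw [← hpq]; group
        _ = u * (b' * n * u2) := by rw [← hde, hdu]
        _ = _ := by group
    obtain ⟨-, h2⟩ := canonical_unique hT2 hC2 (mul_mem hb' hnp) (mul_mem hu6B hb') hn hn hm hq hu2 he
    obtain ⟨-, rfl⟩ := h2 hm rfl
    have hp' : Form a b p := by
      rw [show p = q * u * q⁻¹ by rw [hpq]; group]
      exact hform.conj hu2U
    have key : ∀ x ∈ (T2).rootGen F ((T2).posSet w), ∃ c e, Form c e x ∧
        ((w ⟨6, by decide +kernel⟩).val < (T2).half → c = 0) ∧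
        ((w ⟨7, by decide +kernel⟩).val < (T2).half → e = 0) := by
      intro x hx
      induction hx using Subgroup.closure_induction with
      | mem x hx =>
        obtain ⟨r, hr, ⟨_, hrp, hrw⟩, t, rfl⟩ := hx
        rw [half_eq] at hrp
        rcases (show r = 6 ∨ r = 7 ∨ 8 ≤ r by omega) with rfl | rfl | h8
        · exact ⟨t, 0, ⟨1, one_mem _, by rw [xU_zero hT2 (by decide +kernel)]; simp⟩,
            fun h => absurd hrw (not_le.2 h), fun _ => rfl⟩
        · exact ⟨0, t, ⟨1, one_mem _, by rw [xU_zero hT2 (by decide +kernel)]; simp⟩,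
            fun _ => rfl, fun h => absurd hrw (not_le.2 h)⟩
        · exact ⟨0, 0, ⟨_, x_mem hr h8 t, by
            rw [xU_zero hT2 (by decide +kernel), xU_zero hT2 (by decide +kernel), one_mul, one_mul]⟩,
            fun _ => rfl, fun _ => rfl⟩
      | one => exact ⟨0, 0, Form.one, fun _ => rfl, fun _ => rfl⟩
      | mul x y _ _ hx hy =>
        obtain ⟨c, e, hf, h1, h1'⟩ := hx
        obtain ⟨c', e', hf', h2, h2'⟩ := hy
        exact ⟨_, _, hf.mul hf', fun h => by rw [h1 h, h2 h, add_zero], fun h => by rw [h1' h, h2' h, add_zero]⟩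
      | inv x _ hx =>
        obtain ⟨c, e, hf, h1, h1'⟩ := hx
        obtain ⟨c', e', hf'⟩ := exists_form (inv_mem hf.mem)
        have hpr := hf.mul hf'
        rw [mul_inv_cancel] at hpr
        obtain ⟨e1, e2⟩ := Form.unique hpr Form.one
        exact ⟨c', e', hf', fun h => by rw [h1 h, zero_add] at e1; exact e1,
          fun h => by rw [h1' h, zero_add] at e2; exact e2⟩
    obtain ⟨c', e', hf', hc0, he0⟩ := key p hp
    obtain ⟨rfl, rfl⟩ := Form.unique hp' hf'
    have hs : ∀ i : Fin (T2).rank, (T2).simpF hT2 i = ⟨6, by decide +kernel⟩ ∨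
        (T2).simpF hT2 i = ⟨7, by decide +kernel⟩ := by decide +kernel
    rcases hs i with h | h <;> rw [h] at hi
    · exact hab.1 (hc0 hi)
    · exact hab.2 (he0 hi)
  subst hw1
  have hu21 : u2 = 1 := by
    rw [← Subgroup.mem_bot]
    refine (rootGen_le fun r hr hneg t => ?_ : (T2).rootGen F ((T2).negSet 1) ≤ ⊥) hu2
    obtain ⟨hr', hp, hlt⟩ := hneg
    simp only [Equiv.Perm.one_apply] at hlt
    omega
  have hdB : d ∈ (T2).datum.borelSubgroup F := by
    rw [show d = b' * n * u2 from hde, hu21, mul_one]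
    exact mul_mem hb' (Subgroup.mem_sup_right (mem_diag_of_mono_one hT2 hn hm))
  obtain ⟨v, hv, t, ht, hdvt⟩ := (mem_borel_iff hT2).mp hdB
  rw [posUnipotent_rootGen hT2, half_eq] at hv
  obtain ⟨f, rfl⟩ : ∃ f, torusHom T2 F f = t := by
    rw [← MonoidHom.mem_range, torusHom_range hT2]; exact ht
  obtain ⟨r, hr, hur⟩ := id hform
  have h1 : Form ((tCh T2 f 6 : F) * a) ((tCh T2 f 7 : F) * b) (torusHom T2 F f * u * (torusHom T2 F f)⁻¹) := by
    refine ⟨torusHom T2 F f * r * (torusHom T2 F f)⁻¹, ?_, ?_⟩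
    · exact (Subgroup.mem_normalizer_iff.mp (diag_le_normalizer hT2 (fun r => 8 ≤ r) ht) r).mp hr
    · rw [hur]
      calc _ = (torusHom T2 F f * (T2).xU F 6 a) * (T2).xU F 7 b * r * (torusHom T2 F f)⁻¹ := by group
        _ = (T2).xU F 6 ((tCh T2 f 6 : F) * a) * (torusHom T2 F f * (T2).xU F 7 b) * r *
            (torusHom T2 F f)⁻¹ := by rw [torus_xU hT2 f ⟨6, by decide +kernel⟩]; group
        _ = _ := by rw [torus_xU hT2 f ⟨7, by decide +kernel⟩]; group
  have h2 := h1.conj hv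
  rw [show v * (torusHom T2 F f * u * (torusHom T2 F f)⁻¹) * v⁻¹ = d * u * d⁻¹ by rw [hdvt]; group,
    hdu, mul_inv_cancel_right] at h2
  obtain ⟨e1, e2⟩ := Form.unique hform h2
  have hf6 : tCh T2 f 6 = 1 := Units.ext (mul_right_cancel₀ hab.1 (by rw [Units.val_one, one_mul]; exact e1.symm))
  have hf7 : tCh T2 f 7 = 1 := Units.ext (mul_right_cancel₀ hab.2 (by rw [Units.val_one, one_mul]; exact e2.symm))
  have ht1 : torusHom T2 F f = 1 := by
    rw [show (1 : GL (T2).I F) = torusHom T2 F 1 from (map_one _).symm]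
    refine torus_congr hT2 fun s => ?_
    rw [tCh_linear hT2, show tCh T2 (1 : Fin (T2).rank → Fˣ) s.val = 1 by simp [tCh]]
    refine Finset.prod_eq_one fun j _ => ?_
    have : ∀ j : Fin (T2).rank, (T2).simple j.val = 6 ∨ (T2).simple j.val = 7 := by decide +kernel
    rcases this j with h | h <;> rw [h] <;> simp [hf6, hf7]
  rw [ht1, mul_one] at hdvt
  have h8 := pow_sq hp hv
  rw [← hdvt] at h8
  have h9 := pow_gcd_eq_one.2 ⟨h8, hdm⟩
  rw [(Nat.Coprime.pow_left 2 hcop).gcd_eq_one, pow_one] at h9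
  exact hd1 h9

end CfsgLib.Chevalley.G2OddOrders
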