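import Cfsg.Agent.Lib.Chevalley.G2OddOrders.Conj
import Cfsg.Agent.Lib.Chevalley.G2OddOrders.Unipotent

/-!
Elements of order prime to the characteristic, not dividing six, of G₂ in odd characteristic: conjugation
into a torus over an extension and their centralisers.
-/

set_option autoImplicit false
set_option maxRecDepth 20000

namespace CfsgLib.Chevalley.G2OddOrders

open Tbl
open CfsgLib.Chevalley.CoxeterTorus
open CfsgLib.KnownB.FieldAut (mapGL mapGL_inj map_torus map_group)
open CfsgLib.Chevalley.G2Orders (torus_mem tCh_one pow_of_ch ch_of_pow card_diag diag_comm pow_det tCh_of_co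
  tCh_neg torus_inj mem_of_support Normal exists_normal refl_simple refl_unique Pr diag_le_norm
  rootGen_le_range sl2_inj card_levi l3 l3_cube l3_ne l3_rel twist_cube conj_abelian card_sup_inf_dvd det2
  det2_facts cls twist_cls basis_of_fixed reflCo)
open scoped MatrixGroups Pointwise

local notation "T2" => Data.G2.tbl
local notation "hT2" => Data.G2.valid
local notation "hC2" => Data.G2.chkComm

/-- An element of prime-power order of a product with a normal subgroup, over a group of order prime to it. -/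
theorem pow_index_mem_prime {G : Type*} [Group G] [Finite G] {p : ℕ} (hp : p.Prime) (N K : Subgroup G) (hK : K ≤ Subgroup.normalizer (N : Set G))
    (hodd : ¬ p ∣ Nat.card ↥K) {x : G} (hx : x ∈ N ⊔ K) {k : ℕ} (hk : x ^ p ^ k = 1) : x ∈ N := by
  set M := N ⊔ K
  have hM : M ≤ Subgroup.normalizer (N : Set G) := sup_le Subgroup.le_normalizer hK
  have : (N.subgroupOf M).Normal :=
    (Subgroup.normal_subgroupOf_iff_le_normalizer (le_sup_left : N ≤ M)).2 hM
  have h1 : (N.subgroupOf M).index ∣ Nat.card ↥(K.subgroupOf M) := by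
    rw [← Subgroup.relIndex_top_right,
      show (⊤ : Subgroup ↥M) = K.subgroupOf M ⊔ N.subgroupOf M by
        rw [← Subgroup.subgroupOf_sup le_sup_right le_sup_left, sup_comm K N, Subgroup.subgroupOf_self],
      Subgroup.relIndex_sup_right]
    exact Subgroup.relIndex_dvd_card _ _
  rw [Nat.card_congr (Subgroup.subgroupOfEquivOfLe (le_sup_right : K ≤ M)).toEquiv] at h1
  have h2 : (⟨x, hx⟩ : ↥M) ^ (N.subgroupOf M).index ∈ N.subgroupOf M := Subgroup.pow_index_mem _ _
  rw [Subgroup.mem_subgroupOf, Subgroup.coe_pow] at h2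
  have hcop : Nat.Coprime (p ^ k) (N.subgroupOf M).index :=
    Nat.Coprime.pow_left k ((hp.coprime_iff_not_dvd).2 fun h => hodd (h.trans h1))
  have e : x = (x ^ (N.subgroupOf M).index) ^ Nat.gcdB (p ^ k) (N.subgroupOf M).index := by
    have h := Nat.gcd_eq_gcd_ab (p ^ k) (N.subgroupOf M).index
    rw [hcop.gcd_eq_one] at h
    conv_lhs => rw [← zpow_one x, ← Nat.cast_one (R := ℤ), h, zpow_add, zpow_mul, zpow_natCast, hk,
      one_zpow, one_mul, zpow_mul, zpow_natCast]
  rw [e]
  exact zpow_mem h2 _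

theorem pair_one : ∀ b : Fin (T2).n, ∃ s : Fin (T2).n, (T2).pair b.val s.val = 1 := by decide +kernel

section Field

variable {K : Type*} [Field K] [Fintype K]

section Six

variable {f : Fin (T2).rank → Kˣ} (hf6 : f ^ 6 ≠ 1)
include hf6

/-- The roots on which an element is trivial are one pair at most. -/
theorem zero_pair {b g : Fin (T2).n} (hb : tCh T2 f b.val = 1) (hg : tCh T2 f g.val = 1) :
    g = b ∨ g = (T2).negF b := by
  by_contra h
  push Not at h
  obtain ⟨-, h2⟩ := det2_facts b g (fun e => h.1 (Fin.ext e)) (fun e => h.2 (Fin.ext e))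
  have h1 := pow_det (f := f) (k := 1) (b := b) (g := g) (by rw [pow_one, hb]) (by rw [pow_one, hg])
  rw [one_mul] at h1
  obtain ⟨c, hc⟩ : (det2 b.val g.val).natAbs ∣ 6 := by
    have := Int.natAbs_dvd_natAbs.2 h2
    simpa using this
  exact hf6 (by rw [hc, pow_mul, h1, one_pow])

/-- The stabiliser is trivial or one reflection. -/
theorem stab_cases {w : Equiv.Perm (Fin (T2).n)} (hw : w ∈ (T2).WP hT2)
    (h : ∀ s : Fin (T2).n, tCh T2 f (w s).val = tCh T2 f s.val) :
    w = 1 ∨ ∃ b : Fin (T2).n, tCh T2 f b.val = 1 ∧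
      ∀ s : Fin (T2).n, ∀ j : Fin (T2).rank, (T2).co (w s).val j.val = reflCo b.val s.val j.val := by
  rcases cls hw with h1 | ⟨b, hb, h1⟩ | h1 | h1
  · exact Or.inl h1
  · refine Or.inr ⟨b, ?_, h1⟩
    obtain ⟨s, hs⟩ := pair_one b
    have h2 := tCh_of_co (f := f) (u := w s) (s := s) (r := b) (x := 1) (y := -1)
      fun j => by rw [h1 s j, reflCo, hs]; ring
    rw [h, zpow_one, zpow_neg_one, eq_comm, mul_eq_left, inv_eq_one] at h2
    exact h2
  · refine absurd (pow_of_ch fun s => ?_) hf6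
    have h2 := (h (w (w s))).trans ((h (w s)).trans (h s))
    rw [h1, tCh_neg, inv_eq_iff_mul_eq_one, ← pow_two] at h2
    rw [show (6 : ℕ) = 2 * 3 from rfl, pow_mul, h2, one_pow]
  · refine absurd (pow_of_ch fun s => ?_) hf6
    have h2 := tCh_of_co (f := f) (u := w (w s)) (s := s) (r := w s) (x := -1) (y := -1)
      fun j => by have := h1 s j; linarith
    rw [h, h, zpow_neg_one, eq_comm, ← mul_inv_rev, inv_eq_iff_mul_eq_one, ← pow_two, ← pow_succ] at h2
    rw [show (6 : ℕ) = 3 * 2 from rfl, pow_mul, h2, one_pow]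

end Six

/-- The centraliser of an element of order not dividing six. -/
theorem centralizer_cases {f : Fin (T2).rank → Kˣ} 
    (hf6 : f ^ 6 ≠ 1) (hN : Normal f) {c : GL (T2).I K} (hc : c ∈ (T2).datum.group K)
    (h : torusHom T2 K f * c = c * torusHom T2 K f) :
    c ∈ (T2).datum.diagonalSubgroup K ∨ ∃ i : Fin (T2).rank, tCh T2 f ((T2).simple i.val) = 1 ∧
      c ∈ (T2).rootGen K (Pr i) ⊔ (T2).datum.diagonalSubgroup K := by
  obtain ⟨u1, hu1, n, hn, w, hw, u, hu, hmn, rfl, hc1, hc2, hrel⟩ := decompose hT2 hC2 hc h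
  rcases hN with hreg | ⟨i, hi⟩
  · refine Or.inl ?_
    rw [unip_trivial hT2 hC2 hreg hu1 hc1, unip_trivial hT2 hC2 hreg hu hc2, one_mul, mul_one]
    rcases stab_cases hf6 hw hrel with rfl | ⟨b, hb, -⟩
    · exact mem_diag_of_mono_one hT2 hn hmn
    · exact absurd hb (hreg b)
  refine Or.inr ⟨i, hi, ?_⟩
  have hP : ∀ s : Fin (T2).n, (T2).half ≤ s.val → tCh T2 f s.val = 1 → Pr i s.val := fun s _ hs =>
    (zero_pair hf6 (b := (T2).simpF hT2 i) hi hs).imp (congrArg Fin.val) (congrArg Fin.val)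
  refine mul_mem (mul_mem (Subgroup.mem_sup_left (mem_of_support hP hu1 hc1)) ?_)
    (Subgroup.mem_sup_left (mem_of_support hP hu hc2))
  rcases stab_cases hf6 hw hrel with rfl | ⟨b, hb, hb'⟩
  · exact Subgroup.mem_sup_right (mem_diag_of_mono_one hT2 hn hmn)
  have hwi : w = (T2).refP hT2 i :=
    (refl_unique (zero_pair hf6 hb (g := (T2).simpF hT2 i) hi) hb' fun s j => by
      rw [refP_apply]; exact refl_simple i s j)
  have hni : (T2).nU K ((T2).simple i.val) 1 ∈ (T2).rootGen K (Pr i) := by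
    have hx : ∀ t, (T2).xU K ((T2).simple i.val) t ∈ (T2).rootGen K (Pr i) := fun t =>
      xU_mem_rootGen (P := Pr i) (simple_lt hT2 i.2) (Or.inl rfl) t
    exact mul_mem (mul_mem (hx _)
      (xU_mem_rootGen (P := Pr i) (neg_lt' (simple_lt hT2 i.2)) (Or.inr rfl) _)) (hx _)
  rw [show n = n * ((T2).nU K ((T2).simple i.val) 1)⁻¹ * (T2).nU K ((T2).simple i.val) 1 by group]
  refine mul_mem (Subgroup.mem_sup_right (mem_diag_of_mono_one hT2
    (mul_mem hn (inv_mem (nU_simple_mem_N hT2 i))) ?_)) (Subgroup.mem_sup_left hni)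
  have := hmn.mul (mono_nU_simple (F := K) hT2 i).inv
  rwa [hwi, mul_inv_cancel] at this

/-- An element of `p`-power order of the subgroup of a pair has order dividing `p`. -/
theorem levi_pow {p : ℕ} [Fact p.Prime] [CharP K p] (i : Fin (T2).rank) {x : GL (T2).I K}
    (hx : x ∈ (T2).rootGen K (Pr i) ⊔ (T2).datum.diagonalSubgroup K) {k : ℕ} (hk : x ^ p ^ k = 1) :
    x ^ p = 1 := by
  classical
  have hnd : ¬ p ∣ Nat.card ↥((T2).datum.diagonalSubgroup K) := by
    rw [G2Orders.card_diag]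
    intro h
    have h1 := (Fact.out : p.Prime).dvd_of_dvd_pow h
    obtain ⟨d, hpp, hd⟩ := FiniteField.card K p
    have hpQ : p ∣ Fintype.card K := by rw [hd]; exact dvd_pow_self p d.2.ne'
    have h2 := Nat.dvd_sub hpQ h1
    have := Fintype.one_lt_card (α := K)
    rw [show Fintype.card K - (Fintype.card K - 1) = 1 by omega] at h2
    exact hpp.ne_one (Nat.dvd_one.1 h2)
  obtain ⟨g, rfl⟩ := rootGen_le_range i (pow_index_mem_prime Fact.out _ _ (diag_le_norm i) hnd hx hk)
  rw [← map_pow] at hk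
  have hg : g ^ p ^ k = 1 := sl2_inj i (hk.trans (map_one _).symm)
  rw [← map_pow, Classical.sl2_pow_char p g ?_, map_one]
  have h : ((g : Matrix (Fin 2) (Fin 2) K) - 1) ^ p ^ k = 0 := by
    rw [sub_pow_char_pow_of_commute p k (Commute.one_right _), one_pow,
      ← Matrix.SpecialLinearGroup.coe_pow, hg, Matrix.SpecialLinearGroup.coe_one, sub_self]
  have h2 := congrArg Matrix.det h
  rw [Matrix.det_pow, Matrix.det_zero] at h2
  exact eq_zero_of_pow_eq_zero h2

/-- An element of order `3 ^ j` for `2 ≤ j` is conjugate into the torus. -/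
theorem three_conj (hK : Fintype.card K % 9 = 1) {y : GL (T2).I K} (hy : y ∈ (T2).datum.group K)
    {j : ℕ} (hj : 2 ≤ j) (hyo : orderOf y = 3 ^ j) :
    ∃ x ∈ (T2).datum.group K, x * y * x⁻¹ ∈ (T2).datum.diagonalSubgroup K := by
  classical
  have : Fact (Nat.Prime 3) := ⟨Nat.prime_three⟩
  set D := (T2).datum.diagonalSubgroup K
  set n := (T2).nw K l3 with hn
  set w := (T2).pw hT2 l3 with hw
  have hnN : n ∈ (T2).datum.monomialSubgroup K := nw_mem hT2 l3
  have hmn : (T2).Mono n w := mono_nw hT2 l3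
  set A := D ⊔ Subgroup.zpowers n
  have hnorm : Subgroup.zpowers n ≤ Subgroup.normalizer (D : Set (GL (T2).I K)) := by
    rw [Subgroup.zpowers_le]; exact monomial_le_normalizer hT2 hnN
  have hn3 : n ^ 3 = 1 := by rw [pow_succ, pow_two, mul_assoc]; exact nw_cube
  have hnD : n ∉ D := fun h => by
    obtain ⟨s, hs⟩ := l3_ne
    exact hs (by rw [show (T2).pw hT2 l3 = w from rfl, hmn.unique (mono_diag hT2 h)]; rfl)
  have hAcard : Nat.card ↥A = 3 * Nat.card ↥D := by
    have h1 : Nat.card ↥A ∣ 3 * Nat.card ↥D := by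
      refine (dvd_mul_right _ _).trans ((card_sup_inf_dvd D (Subgroup.zpowers n) hnorm).trans ?_)
      rw [Nat.card_zpowers, mul_comm]
      exact mul_dvd_mul_right (orderOf_dvd_of_pow_eq_one hn3) _
    obtain ⟨c, hc⟩ := Subgroup.card_dvd_of_le (le_sup_left : D ≤ A)
    rw [hc, mul_comm _ c] at h1
    rcases (Nat.dvd_prime Nat.prime_three).1 (Nat.dvd_of_mul_dvd_mul_right Nat.card_pos h1) with h | h
    · exfalso
      refine hnD ?_
      have hDA : D = A :=
        Subgroup.eq_of_le_of_card_ge le_sup_left (by rw [hc, h, mul_one])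
      rw [hDA]
      exact Subgroup.mem_sup_right (Subgroup.mem_zpowers n)
    · rw [hc, h, mul_comm]
  have hAG : A ≤ (T2).datum.group K :=
    sup_le (diag_le_group hT2) (by rw [Subgroup.zpowers_le]; exact monomial_le_group hT2 hnN)
  have h3Q : Fintype.card K ≠ 0 := Fintype.card_ne_zero
  set Sum := ∑ x : ↥((T2).WP hT2), Fintype.card K ^ (T2).invN (x : Equiv.Perm (Fin (T2).n))
  have hS9 : (Sum : ZMod 9) = 3 := by
    have hQ : (Fintype.card K : ZMod 9) = 1 := by
      rw [← Nat.div_add_mod (Fintype.card K) 9, hK]; push_cast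
      rw [show (9 : ZMod 9) = 0 from rfl]; ring
    simp only [Sum, Nat.cast_sum, Nat.cast_pow, hQ, one_pow, Finset.sum_const, Finset.card_univ,
      nsmul_eq_mul, mul_one]
    rw [← Nat.card_eq_fintype_card, G2_card_WP]
    rfl
  have hS0 : Sum ≠ 0 := fun h => absurd hS9 (by rw [h]; decide)
  have hS1 : Sum.factorization 3 = 1 := by
    obtain ⟨c, hc⟩ : ∃ c, Sum = 9 * c + 3 := by
      refine ⟨Sum / 9, ?_⟩
      have := congrArg ZMod.val hS9
      rw [ZMod.val_natCast, show (3 : ZMod 9).val = 3 from rfl] at this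
      omega
    rw [hc, show 9 * c + 3 = 3 * (3 * c + 1) by ring,
      Nat.factorization_mul (by norm_num) (by omega), Finsupp.add_apply,
      Nat.Prime.factorization_self Nat.prime_three,
      Nat.factorization_eq_zero_of_not_dvd (show ¬ 3 ∣ 3 * c + 1 by omega)]
  obtain ⟨g, hg⟩ := Twist.ToriGen.conj_into (p := 3) (G := ↥((T2).datum.group K))
    (A.subgroupOf ((T2).datum.group K))
    (by
      rw [Nat.card_congr (Subgroup.subgroupOfEquivOfLe hAG).toEquiv, hAcard, card_group hT2 hC2,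
        Nat.factorization_mul (by norm_num) Nat.card_pos.ne',
        Nat.factorization_mul (Nat.mul_ne_zero (pow_ne_zero _ h3Q) Nat.card_pos.ne') hS0,
        Nat.factorization_mul (pow_ne_zero _ h3Q) Nat.card_pos.ne', Finsupp.add_apply,
        Finsupp.add_apply, Finsupp.add_apply, Nat.Prime.factorization_self Nat.prime_three, hS1,
        Nat.factorization_eq_zero_of_not_dvd (show ¬ 3 ∣ Fintype.card K ^ (T2).half from fun h => by
          have := Nat.prime_three.dvd_of_dvd_pow h; omega)]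
      simp only [D]; omega)
    (y := ⟨y, hy⟩) (k := j) (by rw [← Subgroup.orderOf_coe]; exact hyo)
  rw [Subgroup.mem_subgroupOf] at hg
  refine ⟨g, g.2, ?_⟩
  set b := (g : GL (T2).I K) * y * (g : GL (T2).I K)⁻¹
  have hb : b ∈ A := hg
  have hbo : orderOf b = 3 ^ j := (MulEquiv.orderOf_eq (MulAut.conj _) y).trans hyo
  obtain ⟨a, ha, z, hz, hab⟩ := Set.mem_mul.1
    (show b ∈ (D : Set (GL (T2).I K)) * (Subgroup.zpowers n : Set (GL (T2).I K)) by
      rw [← Subgroup.coe_mul_of_right_le_normalizer_left D (Subgroup.zpowers n) hnorm]; exact hb)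
  obtain ⟨k, rfl⟩ := Subgroup.mem_zpowers_iff.1 hz
  have hk : n ^ k = n ^ (k % 3) := by
    conv_lhs => rw [← Int.emod_add_mul_ediv k 3]
    rw [zpow_add, zpow_mul, show (3 : ℤ) = ((3 : ℕ) : ℤ) from rfl, zpow_natCast, hn3, one_zpow, mul_one]
  have hsmall : ∀ {c : GL (T2).I K}, c ^ 3 = 1 → b = c → False := fun {c} hc hbc => by
    have h1 := orderOf_dvd_of_pow_eq_one hc
    rw [← hbc, hbo] at h1
    have := (Nat.pow_dvd_pow_iff_le_right (show 1 < 3 by norm_num)).1 (h1.trans (pow_one 3).symm.dvd)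
    omega
  rcases (show k % 3 = 0 ∨ k % 3 = 1 ∨ k % 3 = 2 by omega) with e | e | e <;> rw [e] at hk
  · rw [← hab, hk, zpow_zero, mul_one]; exact ha
  · exfalso
    refine hsmall (twist_cube hnN hmn nw_cube (fun s j => l3_rel s j) ha) ?_
    rw [← hab, hk, zpow_one]
  · exfalso
    refine hsmall (twist_cube (mul_mem hnN hnN) (hmn.mul hmn) ?_ (fun s j => ?_) ha) ?_
    · calc n * n * (n * n * (n * n)) = (n * (n * n)) * (n * (n * n)) := by group
        _ = 1 := by rw [nw_cube, one_mul]
    · have h1 := l3_rel s j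
      have h2 : w (w (w (w s))) = w s := by
        have := l3_cube (w s)
        rwa [pw_append, pw_append] at this
      simp only [Equiv.Perm.mul_apply, h2]
      linarith
    · rw [← hab, hk, show (2 : ℤ) = ((2 : ℕ) : ℤ) from rfl, zpow_natCast, pow_two]

/-- Elements of odd order at least five are conjugate into the torus. -/
theorem exists_torus_conj {m : ℕ} (hK : 3 ∣ m → Fintype.card K % 9 = 1) {y : GL (T2).I K}
    (hy : y ∈ (T2).datum.group K) (hm : Odd m) (hm5 : 5 ≤ m) (hyo : orderOf y = m)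
    (hp : ∀ p : ℕ, p.Prime → p ∣ m → p ∣ Fintype.card K - 1) :
    ∃ x ∈ (T2).datum.group K, ∃ f, torusHom T2 K f = x * y * x⁻¹ ∧ Normal f := by
  classical
  set D := (T2).datum.diagonalSubgroup K
  have fin : ∀ x ∈ (T2).datum.group K, x * y * x⁻¹ ∈ D →
      ∃ x ∈ (T2).datum.group K, ∃ f, torusHom T2 K f = x * y * x⁻¹ ∧ Normal f := by
    intro x hx hd
    rw [show D = _ from (torusHom_range hT2).symm] at hd
    obtain ⟨f, hf⟩ := hd
    obtain ⟨g, hg, f', hf', hN⟩ := exists_normal f
    exact ⟨g * x, mul_mem hg hx, f', by rw [hf', hf]; group, hN⟩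
  have hm0 : m ≠ 0 := by omega
  by_cases h5 : ∃ p : ℕ, p.Prime ∧ 5 ≤ p ∧ p ∣ m
  · obtain ⟨p, hpp, hp5, hpm⟩ := h5
    have : Fact p.Prime := ⟨hpp⟩
    have hW : p.Coprime (Nat.card ((T2).WP hT2)) := by
      rw [G2_card_WP, show 12 = 2 ^ 2 * 3 from rfl]
      exact Nat.Coprime.mul_right (((Nat.coprime_primes hpp Nat.prime_two).2 (by omega)).pow_right _)
        ((Nat.coprime_primes hpp Nat.prime_three).2 (by omega))
    have hzo : orderOf (y ^ (m / p)) = p := by
      rw [← hyo]
      exact orderOf_pow_orderOf_div (by omega) (hyo ▸ hpm)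
    obtain ⟨g, hg⟩ := Twist.ToriGen.conj_into (p := p) (G := ↥((T2).datum.group K))
      (D.subgroupOf ((T2).datum.group K))
      (by rw [Nat.card_congr (Subgroup.subgroupOfEquivOfLe (diag_le_group hT2)).toEquiv,
        card_flag_dvd hT2 hC2 (hp p hpp hpm) hW])
      (y := ⟨y ^ (m / p), pow_mem hy _⟩) (k := 1)
      (by rw [← Subgroup.orderOf_coe, pow_one]; exact hzo)
    rw [Subgroup.mem_subgroupOf, show D = _ from (torusHom_range hT2).symm] at hg
    obtain ⟨f0, hf0⟩ := hg
    obtain ⟨g', hg', f, hf, hN⟩ := exists_normal f0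
    set x : GL (T2).I K := g' * (g : GL (T2).I K) with hxdef
    have hx : x ∈ (T2).datum.group K := mul_mem hg' g.2
    have hfx : torusHom T2 K f = x * y ^ (m / p) * x⁻¹ := by
      rw [hf, hf0, hxdef]; simp only [Subgroup.coe_mul, InvMemClass.coe_inv]; group
    have hfo : orderOf f = p := by
      rw [← orderOf_injective _ (torus_inj (K := K)), hfx]
      exact (MulEquiv.orderOf_eq (MulAut.conj x) _).trans hzo
    have hpo : Odd p := hm.of_dvd_nat hpm
    have hfp : f ^ p = 1 := hfo ▸ pow_orderOf_eq_one f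
    have hf6 : f ^ 6 ≠ 1 := fun h => by
      have h' := orderOf_dvd_of_pow_eq_one h
      rw [hfo] at h'
      rcases hpp.dvd_mul.1 (show p ∣ 2 * 3 from h') with h'' | h''
      · have := Nat.le_of_dvd (by norm_num) h''; omega
      · have := Nat.le_of_dvd (by norm_num) h''; omega
    set y' := x * y * x⁻¹ with hy'
    have hy'G : y' ∈ (T2).datum.group K := mul_mem (mul_mem hx hy) (inv_mem hx)
    have hcomm : torusHom T2 K f * y' = y' * torusHom T2 K f := by
      rw [hfx, hy', ← _root_.conj_pow]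
      exact ((Commute.refl _).pow_left _).eq
    rcases centralizer_cases hf6 hN hy'G hcomm with h | ⟨i, -, h⟩
    · exact fin x hx h
    have hy'o : orderOf y' = m := (MulEquiv.orderOf_eq (MulAut.conj x) y).trans hyo
    obtain ⟨z, hz, hzd⟩ := conj_abelian D (fun a ha b hb => diag_comm ha hb)
      ((T2).rootGen K (Pr i) ⊔ D) le_sup_right y' h (fun l hl hlm => by
        rw [hy'o] at hlm
        have hl2 : l ≠ 2 := fun e => by
          rw [e] at hlm; exact Nat.not_even_iff_odd.2 hm (even_iff_two_dvd.2 hlm)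
        refine le_antisymm ((Nat.factorization_le_iff_dvd Nat.card_pos.ne' Nat.card_pos.ne').2
          (Subgroup.card_dvd_of_le le_sup_right) l) ?_
        have hQ := Fintype.card_ne_zero (α := K)
        refine ((Nat.factorization_le_iff_dvd Nat.card_pos.ne'
          (Nat.mul_ne_zero (Nat.mul_ne_zero hQ (by omega)) Nat.card_pos.ne')).2 (card_levi i) l).trans ?_
        obtain ⟨c, hc⟩ := hp l hl hlm
        have hQ1 := Fintype.one_lt_card (α := K)
        have h2 : ¬ l ∣ Fintype.card K * (Fintype.card K + 1) := by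
          intro hd
          rcases hl.dvd_mul.1 hd with h' | h'
          · have h'' := Nat.dvd_sub h' (hp l hl hlm)
            rw [show Fintype.card K - (Fintype.card K - 1) = 1 by omega] at h''
            exact hl.ne_one (Nat.dvd_one.1 h'')
          · have h'' := Nat.dvd_sub h' (hp l hl hlm)
            rw [show Fintype.card K + 1 - (Fintype.card K - 1) = 2 by omega] at h''
            exact hl2 ((Nat.prime_dvd_prime_iff_eq hl Nat.prime_two).1 h'')
        rw [Nat.factorization_mul (Nat.mul_ne_zero hQ (by omega)) Nat.card_pos.ne', Finsupp.add_apply,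
          Nat.factorization_eq_zero_of_not_dvd h2, zero_add])
    have hMG : (T2).rootGen K (Pr i) ⊔ D ≤ (T2).datum.group K :=
      sup_le (rootGen_le fun r hr _ t => xU_mem_group hT2 hr t) (diag_le_group hT2)
    refine fin (z * x) (mul_mem (hMG hz) hx) ?_
    rw [show z * x * y * (z * x)⁻¹ = z * y' * z⁻¹ by rw [hy']; group]
    exact hzd
  · push Not at h5
    obtain ⟨j, hj⟩ : ∃ j, m = 3 ^ j := by
      refine ⟨m.primeFactorsList.length, Nat.eq_prime_pow_of_unique_prime_dvd hm0 fun {d} hd hdm => ?_⟩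
      have h1 : d < 5 := by
        by_contra h1
        exact h5 d hd (by omega) hdm
      have h2 := hd.two_le
      have h3 : d ≠ 2 := fun e => by
        rw [e] at hdm; exact Nat.not_even_iff_odd.2 hm (even_iff_two_dvd.2 hdm)
      have h4 : d ≠ 4 := fun e => by rw [e] at hd; norm_num at hd
      omega
    have hj2 : 2 ≤ j := by
      by_contra h
      have : 3 ^ j ≤ 3 ^ 1 := Nat.pow_le_pow_right (by norm_num) (by omega)
      omega
    obtain ⟨x, hx, hd⟩ := three_conj (hK (hj ▸ dvd_pow_self 3 (by omega))) hy hj2 (hyo.trans hj)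
    exact fin x hx hd

end Field

section Rational

variable {F : Type*} [Field F] [Fintype F] {p : ℕ} [Fact p.Prime] [CharP F p]

/-- Over the rational group: the orders prime to `p` and the `p`-parts commuting with them. -/
theorem order_cases (hp2 : p ≠ 2) {q : ℕ} (hF : Fintype.card F = q) {s u : GL (T2).I F}
    (hs : s ∈ (T2).datum.group F) (hu : u ∈ (T2).datum.group F) {m k : ℕ} (hm0 : m ≠ 0)
    (hpm : p.Coprime m) (h6 : ¬ m ∣ 6) (hso : orderOf s = m) (huk : u ^ p ^ k = 1) (hsu : s * u = u * s) :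
    (m ∣ q - 1 ∨ m ∣ q + 1 ∨ m ∣ q ^ 2 - 1 ∨ m ∣ q ^ 2 + q + 1 ∨ m ∣ q ^ 2 - q + 1) ∧
      u ^ p = 1 ∧ (u = 1 ∨ m ∣ q - 1 ∨ m ∣ q + 1) := by
  classical
  obtain ⟨E, _, _, L, _, _, ι, j, σ, hσ, hfix, hE, hL⟩ := exists_tower hF
  set κ : F →+* L := j.comp ι
  have : CharP L p := charP_of_injective_ringHom κ.injective p
  have hq1 : 1 < q := hF ▸ Fintype.one_lt_card
  obtain ⟨a, hpp, ha⟩ := FiniteField.card F p
  rw [hF] at ha
  have hQ1 := Fintype.one_lt_card (α := L)
  have hpQ : p ∣ Fintype.card L := by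
    rw [hL]; exact dvd_pow (ha ▸ dvd_pow_self p a.2.ne') (by norm_num)
  have hK9 : 3 ∣ m → Fintype.card L % 9 = 1 := fun h3 => by
    have hq3 : Nat.Coprime q 9 := by
      rw [ha, show (9 : ℕ) = 3 ^ 2 from rfl]
      exact ((hpm.coprime_dvd_right h3).pow_left _).pow_right _
    have := Nat.ModEq.pow_totient hq3
    rw [show Nat.totient 9 = 6 by decide] at this
    rw [hL, show 576 = 6 * 96 from rfl, pow_mul, Nat.pow_mod, this]
  have hpd : ∀ l : ℕ, l.Prime → l ∣ m → l ∣ Fintype.card L - 1 := by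
    intro l hl hlm
    have h2 : l ≠ p := fun e => by
      rw [e] at hlm
      exact hpp.ne_one (Nat.eq_one_of_dvd_coprimes hpm dvd_rfl hlm)
    have h1 : l ∣ Nat.card ↥((T2).datum.group F) :=
      hlm.trans (hso ▸ Subgroup.orderOf_coe (⟨s, hs⟩ : ↥((T2).datum.group F)) ▸ orderOf_dvd_natCard _)
    rw [Data.G2.datum_eq, Cfsg.Agent.S1059.result hF] at h1
    rw [hL]
    rcases hl.dvd_mul.1 h1 with h | h
    · rcases hl.dvd_mul.1 h with h | h
      · exfalso
        rw [ha, ← pow_mul] at h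
        exact h2 ((Nat.prime_dvd_prime_iff_eq hl hpp).1 (hl.dvd_of_dvd_pow h))
      · exact h.trans (Nat.pow_sub_one_dvd_pow_sub_one q (by norm_num))
    · exact h.trans (Nat.pow_sub_one_dvd_pow_sub_one q (by norm_num))
  set s' := mapGL T2 κ s with hs'
  have hs'G : s' ∈ (T2).datum.group L := map_group κ hT2 ⟨s, hs, rfl⟩
  obtain ⟨x, hx, f, hf, hN⟩ : ∃ x ∈ (T2).datum.group L, ∃ f,
      torusHom T2 L f = x * s' * x⁻¹ ∧ Normal f := by
    rcases Nat.even_or_odd m with hm | hm
    · obtain ⟨x, hx, hd⟩ := even_conj p hp2 ι j (hF ▸ hE) (hF ▸ hL) hs hm hm0 hso hpm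
      rw [← torusHom_range hT2] at hd
      obtain ⟨f, hf⟩ := hd
      obtain ⟨g, hg, f', hf', hN⟩ := exists_normal f
      exact ⟨g * x, mul_mem hg hx, f', by rw [hf', hf, hs']; simp only [κ]; group, hN⟩
    · refine exists_torus_conj hK9 hs'G hm ?_ ((orderOf_injective _ (mapGL_inj κ) s).trans hso) hpd
      by_contra h5
      obtain ⟨i, hi⟩ := hm
      obtain rfl | rfl : i = 0 ∨ i = 1 := by omega
      · exact h6 (by rw [hi]; exact one_dvd 6)
      · exact h6 (by rw [hi]; norm_num)
  have hfo : orderOf f = m := by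
    rw [← orderOf_injective _ (torus_inj (K := L)), hf]
    exact (MulEquiv.orderOf_eq (MulAut.conj x) _).trans ((orderOf_injective _ (mapGL_inj κ) s).trans hso)
  have hfm : f ^ m = 1 := hfo ▸ pow_orderOf_eq_one f
  have hf6 : f ^ 6 ≠ 1 := fun h => h6 (hfo ▸ orderOf_dvd_of_pow_eq_one h)
  have hdvd : ∀ {n : ℕ}, f ^ n = 1 → m ∣ n := fun h => hfo ▸ orderOf_dvd_of_pow_eq_one h
  have hσι : mapGL T2 σ s' = s' :=
    Units.ext (Matrix.ext fun i j => (hfix _).2 ⟨(s : Matrix (T2).I (T2).I F) i j, rfl⟩)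
  have hσf : mapGL T2 σ (torusHom T2 L f) = torusHom T2 L f ^ q := by
    rw [map_torus, ← map_pow]
    exact congrArg _ (funext fun i => Units.ext (by simp [hσ]))
  obtain ⟨-, -, -, -, w, hw, -, -, -, -, -, -, hrel⟩ := decompose hT2 hC2
    (mul_mem (map_group σ hT2 ⟨x, hx, rfl⟩) (inv_mem hx)) (y := mapGL T2 σ x * x⁻¹) (f := f) (g := f ^ q)
    (by rw [map_pow, ← hσf, hf, map_mul, map_mul, map_inv, hσι]; group)
  set v := w⁻¹ with hv
  have hvW : v ∈ (T2).WP hT2 := inv_mem hw
  have hvrel : ∀ r : Fin (T2).n, tCh T2 f (v r).val = tCh T2 f r.val ^ q := by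
    intro r
    have h1 := hrel (v r)
    rw [hv, ← Equiv.Perm.mul_apply, mul_inv_cancel, Equiv.Perm.one_apply, tCh_pow] at h1
    exact h1.symm
  have hcancel : ∀ (c : Lˣ) (n : ℕ), 1 ≤ n → c ^ n = c → c ^ (n - 1) = 1 := fun c n hn h => by
    refine mul_right_cancel (b := c) ?_
    rw [← pow_succ, Nat.sub_add_cancel hn, h, one_mul]
  refine ⟨?_, ?_⟩
  · rcases twist_cls hvW with h1 | h1 | ⟨e, he, h1⟩
    · refine Or.inl (hdvd (pow_of_ch fun r => hcancel _ _ hq1.le ?_))
      have h2 := hvrel r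
      rw [h1, Equiv.Perm.one_apply] at h2
      exact h2.symm
    · refine Or.inr (Or.inl (hdvd (pow_of_ch fun r => ?_)))
      have h2 := hvrel r
      rw [h1, tCh_neg] at h2
      rw [pow_succ, ← h2, inv_mul_cancel]
    · have h2 : ∀ r : Fin (T2).n, tCh T2 f r.val ^ (q ^ 2) =
          (tCh T2 f r.val ^ q) ^ e.1 * tCh T2 f r.val ^ (-e.2) := fun r => by
        have h3 := tCh_of_co (f := f) (u := v (v r)) (s := v r) (r := r) (x := e.1) (y := -e.2)
          fun j => by rw [h1 r j]; ring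
        rw [hvrel, hvrel, ← pow_mul, ← pow_two] at h3
        exact h3
      refine Or.inr (Or.inr ?_)
      have hqq : q ≤ q ^ 2 := Nat.le_self_pow (by norm_num) q
      simp only [List.mem_cons, List.not_mem_nil, or_false] at he
      rcases he with rfl | rfl | rfl
      · refine Or.inl (hdvd (pow_of_ch fun r => hcancel _ _ (by omega) ?_))
        have h3 := h2 r
        rwa [zpow_zero, one_mul, neg_neg, zpow_one] at h3
      · refine Or.inr (Or.inr (hdvd (pow_of_ch fun r => mul_right_cancel (b := tCh T2 f r.val ^ q) ?_)))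
        rw [← pow_add, show q ^ 2 - q + 1 + q = q ^ 2 + 1 by omega, pow_succ, h2 r, zpow_one,
          zpow_neg_one, inv_mul_cancel_right, one_mul]
      · refine Or.inr (Or.inl (hdvd (pow_of_ch fun r => ?_)))
        rw [pow_succ, pow_add, h2 r, zpow_neg_one, zpow_neg_one]
        group
  set u' := x * mapGL T2 κ u * x⁻¹ with hu'
  have hu'G : u' ∈ (T2).datum.group L := mul_mem (mul_mem hx (map_group κ hT2 ⟨u, hu, rfl⟩)) (inv_mem hx)
  have hu'k : u' ^ p ^ k = 1 := by rw [hu', _root_.conj_pow, ← map_pow, huk, map_one]; group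
  have hback : ∀ n : ℕ, u' ^ n = 1 → u ^ n = 1 := fun n h => by
    rw [hu', _root_.conj_pow, conj_eq_one_iff, ← map_pow, ← map_one (mapGL T2 κ)] at h
    exact mapGL_inj κ h
  have hcomm : torusHom T2 L f * u' = u' * torusHom T2 L f := by
    rw [hf, hu', hs']
    calc x * mapGL T2 κ s * x⁻¹ * (x * mapGL T2 κ u * x⁻¹)
        = x * (mapGL T2 κ s * mapGL T2 κ u) * x⁻¹ := by group
      _ = x * (mapGL T2 κ u * mapGL T2 κ s) * x⁻¹ := by rw [← map_mul, hsu, map_mul]
      _ = _ := by group
  rcases centralizer_cases hf6 hN hu'G hcomm with h | ⟨i, hi, h⟩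
  · have h1 : u = 1 := by
      rw [← pow_one u]
      refine hback 1 ?_
      rw [pow_one, ← Subgroup.mem_bot]
      refine pow_index_mem_prime (Fact.out : p.Prime) ⊥ ((T2).datum.diagonalSubgroup L)
        (fun z _ => Subgroup.mem_normalizer_iff.2 fun _ => by simp) ?_ (Subgroup.mem_sup_right h) hu'k
      rw [G2Orders.card_diag]
      intro hd
      have h1 := (Fact.out : p.Prime).dvd_of_dvd_pow hd
      have h2 := Nat.dvd_sub hpQ h1
      rw [show Fintype.card L - (Fintype.card L - 1) = 1 by omega] at h2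
      exact (Fact.out : p.Prime).ne_one (Nat.dvd_one.1 h2)
    exact ⟨by rw [h1, one_pow], Or.inl h1⟩
  refine ⟨hback p (levi_pow i h hu'k), Or.inr ?_⟩
  set b := (T2).simpF hT2 i with hb
  have hb1 : tCh T2 f b.val = 1 := hi
  have hfix' : v b = b ∨ v b = (T2).negF b :=
    zero_pair hf6 hb1 (by rw [hvrel, hb1, one_pow])
  obtain ⟨g, hg, e, he, c, hc⟩ := basis_of_fixed hvW b hfix'
  have h3 := tCh_of_co (f := f) (u := v g) (s := g) (r := b) (x := e) (y := c) hc
  rw [hvrel, hb1, one_zpow, mul_one] at h3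
  simp only [List.mem_cons, List.not_mem_nil, or_false] at he
  have key : ∀ n : ℕ, tCh T2 f g.val ^ n = 1 → m ∣ n := fun n h => by
    have h4 := pow_det (f := f) (k := n) (b := b) (g := g) (by rw [hb1, one_pow]) h
    rw [hg, mul_one] at h4
    exact hdvd h4
  rcases he with rfl | rfl
  · exact Or.inl (key _ (hcancel _ _ hq1.le (by rw [h3, zpow_one])))
  · exact Or.inr (key _ (by rw [pow_succ, h3, zpow_neg_one, inv_mul_cancel]))

end Rational

end CfsgLib.Chevalley.G2OddOrders
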